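import Cfsg.Agent.Lib.ThreeTransp.SolLink.Solvable

/-!
At most `2 log₂ s` commuting transpositions of a solvable class lie in different blocks.
-/

set_option autoImplicit false
set_option linter.unusedSectionVars false
set_option linter.style.haveILetI false

universe u

namespace CfsgLib.ThreeTransp.SolLink

open Subgroup Cfsg

variable {H : Type u} [Group H] [Finite H] {E : Set H}

/-- The automorphisms of a commutative group as additive endomorphisms. -/
def autEnd (W : Type*) [CommGroup W] : MulAut W →* AddMonoid.End (Additive W) where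
  toFun e := (MonoidHom.toAdditive e.toMonoidHom : Additive W →+ Additive W)
  map_one' := rfl
  map_mul' _ _ := rfl

theorem SolTT.pow_le_of_action (h : SolTT E) {W : Type u} [CommGroup W] [Finite W] (hexp : ∀ w : W, w * w = 1)
    (μ : ↥(pCore 2 H) →* W) (hμ : Function.Surjective μ) (τ : H →* MulAut W)
    (hτ : ∀ (g : H) (q : ↥(pCore 2 H)), ∀ hg : g * (q : H) * g⁻¹ ∈ pCore 2 H, τ g (μ q) = μ ⟨g * q * g⁻¹, hg⟩)
    (hker : ∀ g ∈ τ.ker, Odd (orderOf g) → g ∈ center H)
    (F : Finset H) (hF : ∀ d ∈ F, d ∈ E) (hc : ∀ d ∈ F, ∀ e ∈ F, Commute d e)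
    (hbl : ∀ d ∈ F, ∀ e ∈ F, d ≠ e → d * e ∉ pCore 2 H) (h2 : 2 ≤ F.card) {a : H} (ha : a ∈ E) :
    2 ^ F.card ≤ (blockSet E a).ncard ^ 2 := by
  classical
  haveI : Fact (Nat.Prime 2) := ⟨Nat.prime_two⟩
  haveI : Fact (Nat.Prime 3) := ⟨Nat.prime_three⟩
  haveI := h.sol
  haveI hQn : (pCore 2 H).Normal := Subgroup.sSup_normal _ fun N hN => hN.1
  have hQp := CfsgLib.Cores.isPGroup_pCore (G := H) 2
  have hsqW : ∀ w : W, w⁻¹ = w := fun w => inv_eq_of_mul_eq_one_right (hexp w)
  have hkerF : τ.ker ≤ fittingSubgroup H := h.le_fitting_of_odd hker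
  -- the Fitting subgroup acts trivially
  have hQker : pCore 2 H ≤ τ.ker := by
    intro q hq
    rw [MonoidHom.mem_ker]
    ext w
    obtain ⟨r, rfl⟩ := hμ w
    rw [hτ q r (hQn.conj_mem _ r.2 q)]
    show μ _ = μ r
    rw [show (⟨q * r * q⁻¹, hQn.conj_mem _ r.2 q⟩ : ↥(pCore 2 H)) = ⟨q, hq⟩ * r * ⟨q, hq⟩⁻¹ from
      Subtype.ext rfl, map_mul, map_mul, map_inv, mul_right_comm, mul_inv_cancel, one_mul]
  have hFker : fittingSubgroup H ≤ τ.ker := by
    intro x hx
    obtain ⟨q, hq, z, hz, rfl⟩ := h.exists_mul hx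
    refine mul_mem (hQker hq) (MonoidHom.mem_ker.2 ?_)
    ext w
    obtain ⟨r, rfl⟩ := hμ w
    rw [hτ z r (hQn.conj_mem _ r.2 z)]
    show μ _ = μ r
    congr 1
    refine Subtype.ext ?_
    show z * r * z⁻¹ = r
    rw [← mem_center_iff.1 hz r, mul_inv_cancel_right]
  set Γ := τ.range with hΓ
  set π : H →* Γ := τ.rangeRestrict with hπ
  have hπs : Function.Surjective π := τ.rangeRestrict_surjective
  have hπk : ∀ x, π x = 1 ↔ x ∈ τ.ker := fun x => by rw [MonoidHom.mem_ker]; exact Subtype.ext_iff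
  have hπ1 : ∀ x ∈ E, π x ≠ 1 := by
    intro x hx h1
    have hxQ : ∀ y ∈ E, y ∈ pCore 2 H := fun y hy => by
      obtain ⟨g, rfl⟩ := h.cls x hx y hy
      exact hQn.conj_mem _ (h.mem_two (hkerF ((hπk x).1 h1)) (h.tt.sq x hx)) g
    obtain ⟨y, hy, hxy⟩ := h.exists_noncomm_self hx
    exact hxy (h.block_commute hx hy (mul_mem (hxQ x hx) (hxQ y hy)))
  have hT : IsTT (π '' E) := by
    refine ⟨?_, ?_, ?_, ?_⟩
    · rintro _ ⟨x, hx, rfl⟩; rw [← map_mul, h.tt.sq x hx, map_one]
    · rintro _ ⟨x, hx, rfl⟩; exact hπ1 x hx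
    · rintro _ ⟨x, hx, rfl⟩ _ ⟨y, hy, rfl⟩
      exact (h.tt.cond x hx y hy).imp (fun hxy => hxy.map π) fun hxy => by simp only [← map_mul, hxy]
    · rintro g _ ⟨x, hx, rfl⟩
      obtain ⟨g, rfl⟩ := hπs g
      exact ⟨g * x * g⁻¹, h.tt.conj g x hx, by rw [map_mul, map_mul, map_inv]⟩
  -- commuting distinct images come from commuting members
  have hlift : ∀ x ∈ E, ∀ y ∈ E, π x ≠ π y → Commute (π x) (π y) → Commute x y := by
    intro x hx y hy hne hxy
    by_contra hn
    have h3 := pow_three_eq_one (h.tt.sq x hx) (h.tt.sq y hy) (h.tt.braid hx hy hn)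
    have h2' : (π (x * y)) ^ 2 = 1 := by
      rw [map_mul, hxy.mul_pow, pow_two, pow_two, ← map_mul, ← map_mul, h.tt.sq x hx, h.tt.sq y hy, map_one,
        one_mul]
    have h1 : π (x * y) = 1 := by
      calc π (x * y) = (π (x * y)) ^ 3 := by rw [pow_succ, h2', one_mul]
        _ = 1 := by rw [← map_pow, h3, map_one]
    refine hne ?_
    calc π x = π (x * y) * π y := by rw [← map_mul, mul_assoc, h.tt.sq y hy, mul_one]
      _ = π y := by rw [h1, one_mul]
  set ρ : Γ →* AddMonoid.End (Additive W) := (autEnd W).comp Γ.subtype with hρ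
  have hval : ∀ (g : H) (q : ↥(pCore 2 H)) (hg : g * (q : H) * g⁻¹ ∈ pCore 2 H),
      ρ (π g) (Additive.ofMul (μ q)) = Additive.ofMul (μ ⟨g * q * g⁻¹, hg⟩) := fun g q hg => by
    rw [← hτ g q hg]; rfl
  have hval2 : ∀ (g : H) (q : ↥(pCore 2 H)) (hg : g * (q : H) * g⁻¹ * (q : H)⁻¹ ∈ pCore 2 H),
      ρ (π g) (Additive.ofMul (μ q)) + Additive.ofMul (μ q) =
        Additive.ofMul (μ ⟨g * q * g⁻¹ * (q : H)⁻¹, hg⟩) := fun g q hg => by
    rw [hval g q (hQn.conj_mem _ q.2 g), ← ofMul_mul]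
    congr 1
    conv_lhs => rw [show μ q = μ q⁻¹ by rw [map_inv, hsqW], ← map_mul]
    rfl
  -- no nontrivial normal 2-subgroup in the image
  have hO2 : pCore 2 Γ = ⊥ := by
    rw [Subgroup.eq_bot_iff_forall]
    intro y hy
    obtain ⟨x, rfl⟩ := hπs y
    set M := (pCore 2 Γ).comap π with hM
    haveI : (pCore 2 Γ).Normal := Subgroup.sSup_normal _ fun N hN => hN.1
    haveI hMn : M.Normal := Subgroup.Normal.comap inferInstance π
    have hMF : M ≤ fittingSubgroup H := h.le_fitting_of_odd fun z hz ho => by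
      refine hker z ((hπk z).1 ?_) ho
      obtain ⟨k, hk⟩ := CfsgLib.Cores.isPGroup_pCore (G := Γ) 2 ⟨π z, hz⟩
      have hk' : (π z) ^ 2 ^ k = 1 := by simpa using congrArg Subtype.val hk
      have h1 : orderOf (π z) ∣ Nat.gcd (orderOf z) (2 ^ k) :=
        Nat.dvd_gcd (orderOf_map_dvd π z) (orderOf_dvd_of_pow_eq_one hk')
      rw [Nat.Coprime.pow_right k (Nat.coprime_two_right.2 ho), Nat.dvd_one, orderOf_eq_one_iff] at h1
      exact h1
    exact (hπk x).2 (hFker (hMF hy))
  have hA : ActTT ρ (π '' E) (pCore 3 Γ) := by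
    refine ⟨hT, fun v => ?_, ?_, CfsgLib.Cores.isPGroup_pCore 3, Subgroup.sSup_normal _ fun N hN => hN.1, ?_, ?_⟩
    · exact congrArg Additive.ofMul (hexp v.toMul)
    · refine fun a b hab => Subtype.ext (MulEquiv.ext fun w => ?_)
      exact congrArg Additive.toMul (DFunLike.congr_fun hab (Additive.ofMul w))
    · rintro _ ⟨x, hx, rfl⟩
      by_contra hcon
      push Not at hcon
      haveI : Group.IsSolvable Γ := solvable_of_surjective hπs
      have hcent : π x ∈ centralizer (fittingSubgroup Γ : Set Γ) := by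
        have hle : fittingSubgroup Γ ≤ centralizer ({π x} : Set Γ) := by
          rw [CfsgLib.Cores.fittingSubgroup_eq_iSup_pCore]
          refine iSup_le fun q => fun n hn => mem_centralizer_singleton_iff.2 ?_
          haveI hq : Fact (q : ℕ).Prime := ⟨Nat.prime_of_mem_primeFactors q.2⟩
          rcases eq_or_ne (q : ℕ) 3 with hq3 | hq3
          · exact (hcon n (hq3 ▸ hn)).eq
          rcases eq_or_ne (q : ℕ) 2 with hq2 | hq2
          · rw [hq2, hO2, Subgroup.mem_bot] at hn
            subst hn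
            simp
          haveI hqn : (pCore (q : ℕ) Γ).Normal := Subgroup.sSup_normal _ fun N hN => hN.1
          have hd : π x ∈ π '' E := ⟨x, hx, rfl⟩
          set c := π x * (n * π x * n⁻¹) with hcdef
          have hcm : c ∈ pCore (q : ℕ) Γ := by
            have := mul_mem (hqn.conj_mem _ hn (π x)) (inv_mem hn)
            rw [hT.inv_eq hd] at this
            simpa [hcdef, mul_assoc] using this
          obtain ⟨k, hk⟩ := CfsgLib.Cores.isPGroup_pCore (G := Γ) (q : ℕ) ⟨c, hcm⟩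
          have hk' : c ^ (q : ℕ) ^ k = 1 := by simpa using congrArg Subtype.val hk
          have h6 : c ^ 6 = 1 := by
            rcases hT.cond _ hd _ (hT.conj n _ hd) with hcc | hbr
            · rw [hcdef, show 6 = 2 * 3 from rfl, pow_mul, hcc.mul_pow, pow_two, pow_two, hT.sq _ hd,
                hT.sq _ (hT.conj n _ hd), one_mul, one_pow]
            · rw [hcdef, show 6 = 3 * 2 from rfl, pow_mul,
                pow_three_eq_one (hT.sq _ hd) (hT.sq _ (hT.conj n _ hd)) hbr, one_pow]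
          have h1 : orderOf c ∣ Nat.gcd 6 ((q : ℕ) ^ k) :=
            Nat.dvd_gcd (orderOf_dvd_of_pow_eq_one h6) (orderOf_dvd_of_pow_eq_one hk')
          have hco : Nat.Coprime 6 (q : ℕ) := by
            have h23 : Nat.Coprime (2 * 3) (q : ℕ) :=
              Nat.Coprime.mul_left ((Nat.coprime_primes Nat.prime_two hq.out).2 hq2.symm)
                ((Nat.coprime_primes Nat.prime_three hq.out).2 hq3.symm)
            exact h23
          rw [hco.pow_right k, Nat.dvd_one, orderOf_eq_one_iff] at h1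
          have h1' : n * π x * n⁻¹ = π x := by
            rw [hcdef] at h1
            rw [eq_inv_of_mul_eq_one_right h1, hT.inv_eq hd]
          exact mul_inv_eq_iff_eq_mul.1 h1'
        exact mem_centralizer_iff.2 fun n hn => mem_centralizer_singleton_iff.1 (hle hn)
      have hxF := CfsgLib.Solvable.centralizer_fittingSubgroup_le hcent
      let K : Subgroup Γ :=
        { carrier := {y | y ∈ fittingSubgroup Γ ∧ y ∈ centralizer (fittingSubgroup Γ : Set Γ) ∧ y * y = 1}
          mul_mem' := by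
            rintro a b ⟨ha, ha', ha2⟩ ⟨hb, hb', hb2⟩
            have hab : Commute a b := mem_centralizer_iff.1 hb' a ha
            refine ⟨mul_mem ha hb, mul_mem ha' hb', ?_⟩
            rw [← pow_two, hab.mul_pow, pow_two, pow_two, ha2, hb2, one_mul]
          one_mem' := ⟨one_mem _, one_mem _, one_mul 1⟩
          inv_mem' := by
            rintro a ⟨ha, ha', ha2⟩
            refine ⟨inv_mem ha, inv_mem ha', ?_⟩
            rw [← mul_inv_rev, ha2, inv_one] }
      haveI : (fittingSubgroup Γ).Normal := CfsgLib.Cores.fittingSubgroup_normal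
      haveI hKn : K.Normal := ⟨by
        rintro y ⟨hy, hy', hy2⟩ g
        refine ⟨(inferInstance : (fittingSubgroup Γ).Normal).conj_mem y hy g,
          (inferInstance : (centralizer (fittingSubgroup Γ : Set Γ)).Normal).conj_mem y hy' g, ?_⟩
        rw [show g * y * g⁻¹ * (g * y * g⁻¹) = g * (y * y) * g⁻¹ by group, hy2]
        group⟩
      have hKp : IsPGroup 2 K := fun y => ⟨1, Subtype.ext (by rw [pow_one, pow_two]; exact y.2.2.2)⟩
      have hxK : π x ∈ K := ⟨hxF, hcent, hT.sq _ ⟨x, hx, rfl⟩⟩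
      have := CfsgLib.Cores.le_pCore hKp hxK
      rw [hO2, Subgroup.mem_bot] at this
      exact hπ1 x hx this
    · rintro _ ⟨x, hx, rfl⟩ _ ⟨y, hy, rfl⟩ hne hxy v
      obtain ⟨q, hq⟩ := hμ v.toMul
      have hv : v = Additive.ofMul (μ q) := by rw [hq]; rfl
      have hc' : x * q * x⁻¹ * (q : H)⁻¹ ∈ pCore 2 H := mul_mem (hQn.conj_mem _ q.2 x) (inv_mem q.2)
      rw [hv, hval2 x q hc']
      have hcy : Commute y (x * q * x⁻¹ * (q : H)⁻¹) := by
        have hq1 : π q = 1 := (hπk _).2 (hQker q.2)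
        have h1 := hlift y hy x hx hne.symm hxy.symm
        have h2' := hlift y hy _ (h.tt.conj q x hx) (by rw [map_mul, map_mul, map_inv, hq1]; simpa using hne.symm)
          (by rw [map_mul, map_mul, map_inv, hq1]; simpa using hxy.symm)
        have heq : x * q * x⁻¹ * (q : H)⁻¹ = x * (q * x * (q : H)⁻¹) := by
          rw [h.tt.inv_eq hx]; group
        rw [heq]
        exact h1.mul_right h2'
      rw [hval y _ (hQn.conj_mem _ hc' y)]
      congr 2
      exact Subtype.ext (mul_inv_eq_iff_eq_mul.2 hcy.eq)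
  -- the commuting set and its braider
  obtain ⟨f, hf, hfb⟩ := h.toSolClass.exists_braid (↑F) (fun d hd => hF d hd)
    (Finset.coe_nonempty.2 (Finset.card_pos.1 (by omega))) hc
  have hinj : ∀ d ∈ F, ∀ e ∈ F, π d = π e → d = e := by
    intro d hd e he hde
    by_contra hne
    refine hbl d hd e he hne (h.mem_two (hkerF ((hπk _).1 ?_)) ?_)
    · rw [map_mul, hde, ← map_mul, h.tt.sq e (hF e he), map_one]
    · rw [← pow_two, (hc d hd e he).mul_pow, pow_two, pow_two, h.tt.sq d (hF d hd), h.tt.sq e (hF e he), one_mul]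
  have hfne : ∀ d ∈ F, π f ≠ π d := by
    intro d hd hfd
    obtain ⟨e, he, hed⟩ := Finset.exists_mem_ne (by omega : 1 < F.card) d
    exact hfb e he (hlift f hf e (hF e he) (hfd ▸ fun hh => hed (hinj d hd e he hh).symm)
      (hfd ▸ (hc d hd e he).map π))
  have key := hA.pow_le (F.image π) (by simp only [Finset.mem_image]; rintro _ ⟨d, hd, rfl⟩; exact ⟨d, hF d hd, rfl⟩)
    (by simp only [Finset.mem_image]; rintro _ ⟨d, hd, rfl⟩ _ ⟨e, he, rfl⟩; exact (hc d hd e he).map π)
    (f := π f) ⟨f, hf, rfl⟩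
    (by simp only [Finset.mem_image]; rintro _ ⟨d, hd, rfl⟩ hcm; exact hfb d hd (hlift f hf d (hF d hd) (hfne d hd) hcm))
  rw [Finset.card_image_of_injOn hinj] at key
  refine key.trans (Nat.pow_le_pow_left ?_ 2)
  rw [h.block_ncard_eq ha hf]
  refine le_trans (Set.ncard_le_ncard (t := (fun b => if hb : f * b ∈ pCore 2 H then
      Additive.ofMul (μ ⟨f * b, hb⟩) else 0) '' blockSet E f) ?_ (Set.toFinite _)) (Set.ncard_image_le (Set.toFinite _))
  rintro _ ⟨v, rfl⟩
  obtain ⟨q, hq⟩ := hμ v.toMul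
  have hv : v = Additive.ofMul (μ q) := by rw [hq]; rfl
  have hmem := h.conj_mem_block hf q.2
  refine ⟨_, hmem, ?_⟩
  simp only [hv, dif_pos hmem.2]
  rw [hval2 f q (by simpa [mul_assoc, h.tt.inv_eq hf] using hmem.2)]
  congr 2
  exact Subtype.ext (by simp only [h.tt.inv_eq hf]; group)

/-- The bound. -/
theorem SolTT.pow_le (h : SolTT E) (F : Finset H) (hF : ∀ d ∈ F, d ∈ E) (hc : ∀ d ∈ F, ∀ e ∈ F, Commute d e)
    (hbl : ∀ d ∈ F, ∀ e ∈ F, d ≠ e → d * e ∉ pCore 2 H) (h2 : 2 ≤ F.card) {a : H} (ha : a ∈ E) :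
    2 ^ F.card ≤ (blockSet E a).ncard ^ 2 := by
  haveI : Fact (Nat.Prime 2) := ⟨Nat.prime_two⟩
  haveI hQn : (pCore 2 H).Normal := Subgroup.sSup_normal _ fun N hN => hN.1
  have hQp := CfsgLib.Cores.isPGroup_pCore (G := H) 2
  letI : CommGroup (↥(pCore 2 H) ⧸ frattini ↥(pCore 2 H)) :=
    { (inferInstance : Group (↥(pCore 2 H) ⧸ frattini ↥(pCore 2 H))) with
      mul_comm := CfsgLib.PGroup.quotient_frattini_comm hQp }
  let C : MulAut ↥(pCore 2 H) →* MulAut (↥(pCore 2 H) ⧸ frattini ↥(pCore 2 H)) :=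
    { toFun := fun e => QuotientGroup.congr _ _ e (Subgroup.characteristic_iff_map_eq.1 inferInstance e)
      map_one' := MulEquiv.ext fun x => QuotientGroup.induction_on x fun _ => rfl
      map_mul' := fun _ _ => MulEquiv.ext fun x => QuotientGroup.induction_on x fun _ => rfl }
  refine h.pow_le_of_action (W := ↥(pCore 2 H) ⧸ frattini ↥(pCore 2 H))
    (fun w => by rw [← pow_two]; exact CfsgLib.PGroup.quotient_frattini_pow hQp w)
    (QuotientGroup.mk' (frattini ↥(pCore 2 H))) (QuotientGroup.mk'_surjective _) (C.comp MulAut.conjNormal)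
    (fun g q hg => rfl) (fun g hg ho => ?_) F hF hc hbl h2 ha
  refine h.central_of_odd (h.centralizer_two_le ?_) ho
  refine CfsgLib.LocalEven.HSub.mem_centralizer_of_trivial_mod_frattini hQp ?_ (Nat.coprime_two_right.2 ho) ?_
  · rw [(Subgroup.normalizer_eq_top_iff).2 hQn]; exact mem_top g
  · intro a b _ hb
    have := DFunLike.congr_fun (MonoidHom.mem_ker.1 hg) (a : ↥(pCore 2 H) ⧸ frattini ↥(pCore 2 H))
    have hb' : MulAut.conjNormal g a = b := Subtype.ext (by rw [hb]; rfl)
    refine QuotientGroup.eq.1 ?_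
    conv_lhs => rw [← show (C (MulAut.conjNormal g)) (a : ↥(pCore 2 H) ⧸ frattini ↥(pCore 2 H)) = a from this]
    rw [← hb']
    rfl

end CfsgLib.ThreeTransp.SolLink
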