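import Cfsg.Agent.Lib.ThreeTransp.Spectral

/-!
The multiplicity of the negative eigenvalue of the point graph of a generalised quadrangle is an integer.
-/

set_option autoImplicit false

namespace CfsgLib.ThreeTransp.SolLink

open Matrix

theorem gq_dvd {V : Type*} [Fintype V] (r : V → V → Prop) (hsy : ∀ x y, r x y → r y x)
    (hi : ∀ x, ¬ r x x) {s t : ℕ} (hs : 1 ≤ s) (hk : ∀ x, Nat.card {y // r x y} = (t + 1) * s)
    (hl : ∀ x y, r x y → Nat.card {z // r x z ∧ r y z} = s - 1)
    (hm : ∀ x y, x ≠ y → ¬ r x y → Nat.card {z // r x z ∧ r y z} = t + 1)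
    (hn : Fintype.card V = 1 + (t + 1) * s + t * s ^ 2) : s + t ∣ s ^ 2 * (s * t + 1) := by
  classical
  set c : ℝ := ((s : ℝ) + 1)⁻¹ with hc
  have hs1 : ((s : ℝ) + 1) ≠ 0 := by positivity
  have hst : ((s : ℝ) + t) ≠ 0 := by
    have : (1 : ℝ) ≤ s := by exact_mod_cast hs
    positivity
  let A : Matrix V V ℝ := Matrix.of fun x y => if r x y then 1 else 0
  let J : Matrix V V ℝ := Matrix.of fun _ _ => 1
  have hAA : A * A = (((t : ℝ) + 1) * ((s : ℝ) - 1)) • (1 : Matrix V V ℝ) +
      ((s : ℝ) - 1 - ((t : ℝ) + 1)) • A + ((t : ℝ) + 1) • J := by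
    ext x y
    have hc2 : (A * A) x y = (Nat.card {z // r x z ∧ r y z} : ℝ) := by
      simp only [A, Matrix.mul_apply, Matrix.of_apply, ite_mul, one_mul, zero_mul, ← ite_and]
      rw [Finset.sum_boole, Nat.card_eq_fintype_card, Fintype.card_subtype]
      congr 2
      refine Finset.filter_congr fun z _ => ?_
      exact ⟨fun h => ⟨h.1, hsy _ _ h.2⟩, fun h => ⟨h.1, hsy _ _ h.2⟩⟩
    rw [hc2]
    simp only [A, J, Matrix.add_apply, Matrix.smul_apply, Matrix.of_apply, smul_eq_mul]
    by_cases hxy : x = y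
    · subst hxy
      rw [Matrix.one_apply_eq, if_neg (hi x), Nat.card_congr (Equiv.subtypeEquivRight
        fun z => show r x z ∧ r x z ↔ r x z from and_self_iff), hk]
      push_cast
      ring
    · rw [Matrix.one_apply_ne hxy]
      by_cases h : r x y
      · rw [if_pos h, hl x y h, Nat.cast_sub hs]; ring
      · rw [if_neg h, hm x y hxy h]; push_cast; ring
  have hAJ : A * J = (((t : ℝ) + 1) * s) • J := by
    ext x y
    simp only [A, J, Matrix.mul_apply, Matrix.smul_apply, Matrix.of_apply, mul_one, smul_eq_mul]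
    rw [Finset.sum_boole, show ((t : ℝ) + 1) * s = (((t + 1) * s : ℕ) : ℝ) by push_cast; ring, ← hk x,
      Nat.card_eq_fintype_card, Fintype.card_subtype]
  have hJA : J * A = (((t : ℝ) + 1) * s) • J := by
    ext x y
    simp only [A, J, Matrix.mul_apply, Matrix.smul_apply, Matrix.of_apply, one_mul, smul_eq_mul, mul_one]
    rw [Finset.sum_boole, show ((t : ℝ) + 1) * s = (((t + 1) * s : ℕ) : ℝ) by push_cast; ring, ← hk y,
      Nat.card_eq_fintype_card, Fintype.card_subtype]
    congr 2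
    exact Finset.filter_congr fun z _ => ⟨hsy _ _, hsy _ _⟩
  have hJJ : J * J = (((s : ℝ) + 1) * ((s : ℝ) * t + 1)) • J := by
    ext x y
    simp only [J, Matrix.mul_apply, Matrix.smul_apply, Matrix.of_apply, one_mul, smul_eq_mul, mul_one,
      Finset.sum_const, Finset.card_univ, hn, nsmul_eq_mul]
    push_cast
    ring
  set M : Matrix V V ℝ := A - ((s : ℝ) - 1) • 1 - c • J with hM
  have hMM : M * M = (-((s : ℝ) + t)) • M := by
    rw [hM]
    simp only [sub_mul, mul_sub, smul_mul_assoc, mul_smul_comm, one_mul, mul_one, hAA, hAJ, hJA, hJJ,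
      smul_smul, smul_sub, hc]
    match_scalars <;> field_simp <;> ring
  set P : Matrix V V ℝ := (-((s : ℝ) + t)⁻¹) • M with hP
  have hPP : P * P = P := by
    rw [hP, smul_mul_assoc, mul_smul_comm, hMM, smul_smul, smul_smul]
    congr 1
    field_simp
  obtain ⟨f, hf⟩ := trace_idempotent_nat hPP
  have trA : A.trace = 0 := Finset.sum_eq_zero fun x _ => by simp [A, hi x]
  have hnR : (Fintype.card V : ℝ) = ((s : ℝ) + 1) * ((s : ℝ) * t + 1) := by
    rw [hn]; push_cast; ring
  rw [hP, Matrix.trace_smul, hM, Matrix.trace_sub, Matrix.trace_sub, Matrix.trace_smul, Matrix.trace_smul,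
    trA, Matrix.trace_one, show J.trace = (Fintype.card V : ℝ) by simp [J, Matrix.trace], hnR] at hf
  simp only [smul_eq_mul, hc] at hf
  refine ⟨f, ?_⟩
  have h2 : ((s : ℝ) + t) * f = (s : ℝ) ^ 2 * ((s : ℝ) * t + 1) := by
    rw [← hf]
    field_simp
    ring
  have h3 : (((s + t) * f : ℕ) : ℝ) = ((s ^ 2 * (s * t + 1) : ℕ) : ℝ) := by push_cast; exact h2
  exact (Nat.cast_injective h3).symm

end CfsgLib.ThreeTransp.SolLink
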