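import Cfsg.Agent.Lib.ThreeTransp.SolLink.Data.Plane
import Cfsg.Agent.Lib.ThreeTransp.Four

/-!
The at most nine conjugates of a member of a width-one set under the group generated by three members.
-/

set_option autoImplicit false
set_option maxRecDepth 100000

namespace CfsgLib.ThreeTransp.SolLink

open CosetCert

/-- Following a word through the plane. -/
def fold9 (i : ℕ) (v : List ℕ) : ℕ := v.foldl dataPlane.tbl i

/-- The point of a letter. -/
def pIdx (g : ℕ) : ℕ := if g = 1 then 3 else if g = 2 then 5 else 0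

/-- The point of a conjugate of a letter, the letters mapped to the three generators by `pg`. -/
def blk (pg : ℕ → ℕ) (k : ℕ) (v : List ℕ) : ℕ := fold9 (pIdx (pg k)) (v.map pg)

/-- The line through the first two points. -/
def row : List ℕ := [0, 3, 1]

/-- Short words. -/
def shortWords : List (List ℕ) :=
  let one : List (List ℕ) := [[0], [1], [2]]
  let two := one.flatMap fun w => [w ++ [0], w ++ [1], w ++ [2]]
  [] :: one ++ two ++ two.flatMap fun w => [w ++ [0], w ++ [1], w ++ [2]]

theorem sep_all : ∀ i ∈ List.range 9, ∀ j ∈ List.range 9, i ≠ j → ∃ w ∈ shortWords, (∀ g ∈ w, g < 3) ∧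
    (fold9 i w, fold9 j w) ∈ ([(0, 3), (3, 0), (0, 5), (5, 0), (5, 1), (1, 5), (5, 3), (3, 5)] : List (ℕ × ℕ)) := by
  decide +kernel

theorem sep_row : ∀ i ∈ row, ∀ j ∈ row, i ≠ j → ∃ w ∈ shortWords, (∀ g ∈ w, g < 3) ∧
    (fold9 i w, fold9 j w) ∈ ([(0, 3), (3, 0)] : List (ℕ × ℕ)) := by
  decide +kernel

theorem row_closed : ∀ i ∈ row, dataPlane.tbl i 0 ∈ row ∧ dataPlane.tbl i 1 ∈ row := by decide +kernel

theorem row_lt : ∀ i ∈ row, i < 9 := by decide

theorem relPlane_shape : ∀ t ∈ relPlane, t.2.2.2 = 3 ∧ (t.2.1.length = 0 ∨ t.2.1.length = 1) := by decide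

theorem fold9_values : fold9 0 [1, 0] = 3 ∧ fold9 0 [2, 0] = 5 ∧ fold9 3 [0] = 1 ∧ (dataPlane.rep 0 = []) ∧
    0 < dataPlane.n ∧ dataPlane.n = 9 ∧ dataPlane.ng = 3 := by decide +kernel

variable {X : Type*} [Group X] {S : Set X}

/-- The three generators. -/
def three (A B C : X) : ℕ → X := fun g => if g = 1 then B else if g = 2 then C else A

/-- The point with a given number. -/
def pl (A B C : X) (i : ℕ) : X :=
  act (three A B C) (dataPlane.rep i) * A * (act (three A B C) (dataPlane.rep i))⁻¹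

variable {A B C : X}

theorem three_mem (hA : A ∈ S) (hB : B ∈ S) (hC : C ∈ S) (g : ℕ) : three A B C g ∈ S := by
  unfold three; split_ifs <;> assumption

theorem pl_zero : pl A B C 0 = A := by simp [pl, fold9_values.2.2.2.1]

variable (hS : IsW1 S) (hA : A ∈ S) (hB : B ∈ S) (hC : C ∈ S)
include hS hA hB hC

theorem pl_act {i : ℕ} (hi : i < 9) (v : List ℕ) (hv : ∀ g ∈ v, g < 3) :
    fold9 i v < 9 ∧ act (three A B C) v * pl A B C i * (act (three A B C) v)⁻¹ = pl A B C (fold9 i v) := by
  set e := three A B C with he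
  have hsq : ∀ g, e g * e g = 1 := fun g => hS.sq _ (three_mem hA hB hC g)
  let gen : ℕ → ConjAct X := fun g => ConjAct.toConjAct (e g)
  have hact : ∀ w, act gen w = ConjAct.toConjAct (act e w) := fun w =>
    (CfsgLib.Presentations.SUPres.map_act (ConjAct.toConjAct : X ≃* ConjAct X).toMonoidHom e w).symm
  obtain ⟨-, -, -, -, hn0, hn, hng⟩ := fold9_values
  have hpt : ∀ j, pt dataPlane gen A j = pl A B C j := fun j => by
    rw [pt, hact, ConjAct.smul_def, ConjAct.ofConjAct_toConjAct, pl, he]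
  obtain ⟨-, hT⟩ := check_sound (gen := gen) (x₀ := A) checkPlane
    (fun g _ => by rw [← map_inv, inv_eq_self (hsq g)]; rfl)
    (fun w hw => by
      obtain ⟨t, ht, rfl⟩ := List.mem_map.1 hw
      rw [hact, act_hWord hsq]
      obtain ⟨hm, hlen⟩ := relPlane_shape t ht
      have hmem : act e t.2.1 * e t.2.2.1 * (act e t.2.1)⁻¹ ∈ S := by
        match hv : t.2.1, hlen with
        | [], _ => simpa using three_mem hA hB hC _
        | [h], _ =>
          rw [act_singleton, inv_eq_self (hsq h)]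
          exact hS.closed _ (three_mem hA hB hC h) _ (three_mem hA hB hC _)
        | _ :: _ :: _, hlen => simp at hlen
      rw [hm, hS.pow_three hmem (three_mem hA hB hC _), map_one])
    (fun w hw => by
      rw [hact, ConjAct.smul_def, ConjAct.ofConjAct_toConjAct, mul_inv_eq_iff_eq_mul]
      simp only [dataPlane, List.mem_cons, List.not_mem_nil, or_false] at hw
      rcases hw with rfl | rfl
      · simp [act_cons, e, three]
      · have := hS.plane hA hC hB
        simpa [act_cons, e, three, mul_assoc] using this.symm)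
  have h := table_act hT v (i := i) (by rw [hn]; exact hi) (by rw [hng]; exact hv)
  refine ⟨hn ▸ h.1, ?_⟩
  have h2 := h.2
  rwa [hact, ConjAct.smul_def, ConjAct.ofConjAct_toConjAct, hpt, hpt] at h2

theorem pl_idx {g : ℕ} (hg : g < 3) : pl A B C (pIdx g) = three A B C g := by
  have key : ∀ h, h < 3 → three A B C 0 = A → pl A B C (fold9 0 [h, 0]) =
      A * three A B C h * A * (A * three A B C h)⁻¹ := by
    intro h hh _
    have := (pl_act hS hA hB hC (by norm_num : 0 < 9) [h, 0] (by simp [hh])).2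
    rw [pl_zero] at this
    rw [← this]
    simp [act_cons, three]
  have hbr : ∀ y ∈ S, A * y * A * (A * y)⁻¹ = y := by
    intro y hy
    rw [hS.braid A hA y hy, mul_inv_rev, inv_eq_self (hS.sq A hA), inv_eq_self (hS.sq y hy)]
    simp [mul_assoc, cancel₂ (hS.sq A hA), cancel₂ (hS.sq y hy), hS.sq A hA]
  interval_cases g
  · simp [pIdx, three, pl_zero]
  · have := key 1 (by norm_num) rfl
    rw [fold9_values.1, hbr _ (three_mem hA hB hC 1)] at this
    simpa [pIdx] using this
  · have := key 2 (by norm_num) rfl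
    rw [fold9_values.2.1, hbr _ (three_mem hA hB hC 2)] at this
    simpa [pIdx] using this

theorem pl_aba : pl A B C 1 = A * B * A := by
  have := (pl_act hS hA hB hC (by norm_num : 3 < 9) [0] (by simp)).2
  rw [fold9_values.2.2.1, show pl A B C 3 = three A B C 1 from pl_idx hS hA hB hC (g := 1) (by norm_num)] at this
  rw [← this]
  simp [act_cons, three, inv_eq_self (hS.sq A hA)]

theorem pl_B : pl A B C 3 = B := by simpa [pIdx, three] using pl_idx hS hA hB hC (g := 1) (by norm_num)

theorem pl_C : pl A B C 5 = C := by simpa [pIdx, three] using pl_idx hS hA hB hC (g := 2) (by norm_num)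

theorem pl_eq_image {i j : ℕ} (hi : i < 9) (hj : j < 9) (h : pl A B C i = pl A B C j) {w : List ℕ}
    (hw : ∀ g ∈ w, g < 3) : pl A B C (fold9 i w) = pl A B C (fold9 j w) := by
  rw [← (pl_act hS hA hB hC hi w hw).2, ← (pl_act hS hA hB hC hj w hw).2, h]

theorem pl_injOn_row (hab : A ≠ B) : Set.InjOn (pl A B C) {i | i ∈ row} := by
  intro i hi j hj h
  by_contra hne
  obtain ⟨w, -, hw, hm⟩ := sep_row i hi j hj hne
  have := pl_eq_image hS hA hB hC (row_lt i hi) (row_lt j hj) h hw
  simp only [List.mem_cons, List.not_mem_nil, or_false, Prod.mk.injEq] at hm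
  rcases hm with ⟨h1, h2⟩ | ⟨h1, h2⟩ <;> rw [h1, h2, pl_zero, pl_B hS hA hB hC] at this
  exacts [hab this, hab this.symm]

theorem pl_injOn (hab : A ≠ B) (hac : A ≠ C) (hbc : C ≠ B) (haba : C ≠ A * B * A) :
    Set.InjOn (pl A B C) {i | i < 9} := by
  intro i hi j hj h
  by_contra hne
  obtain ⟨w, -, hw, hm⟩ := sep_all i (List.mem_range.2 hi) j (List.mem_range.2 hj) hne
  have := pl_eq_image hS hA hB hC hi hj h hw
  simp only [List.mem_cons, List.not_mem_nil, or_false, Prod.mk.injEq] at hm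
  rcases hm with ⟨h1, h2⟩ | ⟨h1, h2⟩ | ⟨h1, h2⟩ | ⟨h1, h2⟩ | ⟨h1, h2⟩ | ⟨h1, h2⟩ | ⟨h1, h2⟩ | ⟨h1, h2⟩ <;>
    simp only [h1, h2, pl_zero, pl_B hS hA hB hC, pl_C hS hA hB hC, pl_aba hS hA hB hC] at this
  exacts [hab this, hab this.symm, hac this, hac this.symm, haba this, haba this.symm, hbc this, hbc this.symm]

/-- A set of numbers closed under generators covers the class. -/
theorem pl_cover {I : Set ℕ} {T : Set ℕ} (hI : ∀ i ∈ I, i < 9) (h0 : 0 ∈ I) (hT : ∀ g ∈ T, g < 3)
    (hcl : ∀ i ∈ I, ∀ g ∈ T, dataPlane.tbl i g ∈ I) (hgen : Subgroup.closure (three A B C '' T) = ⊤)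
    {y : X} (hy : ∃ g, g * A * g⁻¹ = y) : ∃ i ∈ I, pl A B C i = y := by
  obtain ⟨g, rfl⟩ := hy
  have hstep : ∀ t ∈ T, ∀ i ∈ I, ∃ j ∈ I, pl A B C j = three A B C t * pl A B C i * (three A B C t)⁻¹ := by
    intro t ht i hi
    refine ⟨_, hcl i hi t ht, ?_⟩
    have := (pl_act hS hA hB hC (hI i hi) [t] (by simpa using hT t ht)).2
    rw [act_singleton] at this
    exact this.symm
  have hall : ∀ i ∈ I, ∃ j ∈ I, pl A B C j = g * pl A B C i * g⁻¹ := by
    have hg : g ∈ Subgroup.closure (three A B C '' T) := hgen ▸ Subgroup.mem_top g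
    induction hg using Subgroup.closure_induction_left with
    | one => exact fun i hi => ⟨i, hi, by simp⟩
    | mul_left a ha b _ ih =>
      obtain ⟨t, ht, rfl⟩ := ha
      intro i hi
      obtain ⟨j, hj, ej⟩ := ih i hi
      obtain ⟨k, hk, ek⟩ := hstep t ht j hj
      exact ⟨k, hk, by rw [ek, ej]; group⟩
    | inv_mul_cancel a ha b _ ih =>
      obtain ⟨t, ht, rfl⟩ := ha
      intro i hi
      obtain ⟨j, hj, ej⟩ := ih i hi
      obtain ⟨k, hk, ek⟩ := hstep t ht j hj
      refine ⟨k, hk, ?_⟩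
      rw [inv_eq_self (hS.sq _ (three_mem hA hB hC t))] at ek ⊢
      rw [ek, ej, mul_inv_rev, inv_eq_self (hS.sq _ (three_mem hA hB hC t))]
      group
  obtain ⟨j, hj, ej⟩ := hall 0 h0
  exact ⟨j, hj, by rw [ej, pl_zero]⟩

/-- The point of a conjugate of a letter under a homomorphism. -/
theorem map_conj {H : Type*} [Group H] (π : H →* X) {e : ℕ → H} {pg : ℕ → ℕ} (hpg : ∀ g, pg g < 3)
    (he : ∀ g, π (e g) = three A B C (pg g)) (k : ℕ) (v : List ℕ) :
    blk pg k v < 9 ∧ π (act e v * e k * (act e v)⁻¹) = pl A B C (blk pg k v) := by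
  have hk : pIdx (pg k) < 9 := by unfold pIdx; split_ifs <;> norm_num
  obtain ⟨h1, h2⟩ := pl_act hS hA hB hC hk (v.map pg) (fun g hg => by
    obtain ⟨u, -, rfl⟩ := List.mem_map.1 hg
    exact hpg u)
  refine ⟨h1, ?_⟩
  have hmap : ∀ w, act (three A B C) (w.map pg) = π (act e w) := by
    intro w
    induction w with
    | nil => simp
    | cons g w ih => rw [List.map_cons, act_cons, act_cons, map_mul, ih, he]
  rw [blk, ← h2, map_mul, map_mul, map_inv, hmap, pl_idx hS hA hB hC (hpg k), he]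

end CfsgLib.ThreeTransp.SolLink
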