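import Cfsg.Agent.Lib.ThreeTransp.SolLink.Solvable
import Cfsg.Agent.Lib.ThreeTransp.SolLink.Plane
import Cfsg.Agent.Lib.ThreeTransp.RadicalFiftyFour
import Cfsg.Agent.Lib.ThreeTransp.Width1

/-!
A solvable class in which commuting members are congruent modulo `O₂`: three or nine blocks.
-/

set_option autoImplicit false
set_option maxRecDepth 100000
set_option linter.style.haveILetI false

universe u

namespace CfsgLib.ThreeTransp.SolLink

open Subgroup Cfsg

variable {H : Type u} [Group H] [Finite H] {E : Set H}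

/-- A homomorphism telling the blocks apart, onto a group generated by a width-one set. -/
structure Frame (E : Set H) (X : Type u) [Group X] (π : H →* X) : Prop where
  surj : Function.Surjective π
  w1 : IsW1 (π '' E)
  block : ∀ a ∈ E, ∀ b ∈ E, (π a = π b ↔ a * b ∈ pCore 2 H)

theorem SolTT.center_le (h : SolTT E) : center H ≤ pCore 2 H ⊔ oddCore H := by
  haveI : Fact (Nat.Prime 2) := ⟨Nat.prime_two⟩
  intro z hz
  obtain ⟨k, m, hm, hkm⟩ := Nat.exists_eq_two_pow_mul_odd (n := orderOf z) (orderOf_pos z).ne'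
  have hnorm : ∀ y ∈ center H, (zpowers y).Normal := fun y hy => ⟨fun x hx g => by
    obtain ⟨i, rfl⟩ := hx
    show g * y ^ i * g⁻¹ ∈ _
    rw [mem_center_iff.1 (zpow_mem hy i) g, mul_inv_cancel_right]
    exact zpow_mem (mem_zpowers y) i⟩
  have h2 : z ^ m ∈ pCore 2 H := by
    haveI := hnorm _ (pow_mem hz m)
    refine CfsgLib.Cores.le_pCore (IsPGroup.of_card (n := k) ?_) (mem_zpowers _)
    rw [Nat.card_zpowers, orderOf_pow' _ hm.pos.ne', hkm,
      Nat.gcd_eq_right (dvd_mul_left m (2 ^ k)), Nat.mul_div_cancel _ hm.pos]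
  have h1 : z ^ 2 ^ k ∈ oddCore H := by
    have ho : Odd (Nat.card (zpowers (z ^ 2 ^ k))) := by
      rw [Nat.card_zpowers, orderOf_pow' _ (by positivity), hkm, Nat.gcd_eq_right (dvd_mul_right _ m),
        Nat.mul_div_cancel_left _ (by positivity)]
      exact hm
    exact (le_sSup (show zpowers (z ^ 2 ^ k) ∈ _ from ⟨hnorm _ (pow_mem hz _), Nat.coprime_two_right.2 ho⟩) :
      zpowers (z ^ 2 ^ k) ≤ oddCore H) (mem_zpowers _)
  have hco : IsCoprime ((2 ^ k : ℕ) : ℤ) (m : ℤ) := by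
    rw [Int.isCoprime_iff_nat_coprime]
    exact Nat.Coprime.pow_left k (Nat.coprime_two_left.2 hm)
  obtain ⟨r, s, hrs⟩ := hco
  have e : z = (z ^ m) ^ s * (z ^ 2 ^ k) ^ r := by
    rw [← zpow_natCast, ← zpow_mul, ← zpow_natCast, ← zpow_mul, ← zpow_add]
    conv_lhs => rw [← zpow_one z, ← hrs]
    congr 1
    ring
  rw [e]
  exact mul_mem (mem_sup_left (zpow_mem h2 s)) (mem_sup_right (zpow_mem h1 r))

variable (h : SolTT E) (hpb : ∀ a ∈ E, ∀ b ∈ E, Commute a b → a * b ∈ pCore 2 H)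
include h hpb

/-- Three or nine blocks. -/
theorem exists_frame : ∃ (X : Type u) (_ : Group X) (_ : Finite X) (π : H →* X), Frame E X π ∧
    ((∃ a ∈ E, ∃ b ∈ E, π a ≠ π b ∧ closure ({π a, π b} : Set X) = ⊤) ∨
      ∃ a ∈ E, ∃ b ∈ E, ∃ c ∈ E, π a ≠ π b ∧ π a ≠ π c ∧ π c ≠ π b ∧ π c ≠ π a * π b * π a ∧
        closure ({π a, π b, π c} : Set X) = ⊤ ∧ Nat.card X = 54) := by
  classical
  haveI : Fact (Nat.Prime 2) := ⟨Nat.prime_two⟩
  haveI : Fact (Nat.Prime 3) := ⟨Nat.prime_three⟩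
  haveI hOn : (oddCore H).Normal := Subgroup.sSup_normal _ fun N hN => hN.1
  haveI hQn : (pCore 2 H).Normal := Subgroup.sSup_normal _ fun N hN => hN.1
  have hQp := CfsgLib.Cores.isPGroup_pCore (G := H) 2
  obtain ⟨p, hp⟩ : ∃ p, p = QuotientGroup.mk' (oddCore H) := ⟨_, rfl⟩
  have hps : Function.Surjective p := hp ▸ QuotientGroup.mk'_surjective _
  have hker : p.ker = oddCore H := by rw [hp, QuotientGroup.ker_mk']
  have hQO : ∀ x ∈ pCore 2 H, x ∈ oddCore H → x = 1 := by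
    intro x hx hx'
    obtain ⟨n, hn⟩ := hQp ⟨x, hx⟩
    have h1 : orderOf x ∣ 2 ^ n := orderOf_dvd_of_pow_eq_one (by simpa using congrArg Subtype.val hn)
    have h2 : Odd (orderOf x) :=
      CfsgLib.Cores.odd_card_oddCore.of_dvd_nat (Subgroup.orderOf_dvd_natCard _ hx')
    exact orderOf_eq_one_iff.1
      (Nat.eq_one_of_dvd_coprimes (Nat.Coprime.pow_left n (Nat.coprime_two_left.2 h2)) h1 dvd_rfl)
  obtain ⟨V, hV⟩ : ∃ V, V = (pCore 2 H).map p := ⟨_, rfl⟩
  haveI hVn : V.Normal := hV ▸ Normal.map hQn p hps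
  have hVp : IsPGroup 2 V := hV ▸ hQp.map p
  have hC : centralizer (V : Set (H ⧸ oddCore H)) ≤ V := by
    intro y hy
    obtain ⟨g, rfl⟩ := hps y
    have hg : g ∈ centralizer (pCore 2 H : Set H) := mem_centralizer_iff.2 fun q hq => by
      have hc := mem_centralizer_iff.1 hy (p q) (hV ▸ mem_map_of_mem p hq)
      have h1 : g * q * g⁻¹ * q⁻¹ ∈ oddCore H := by
        rw [← hker, MonoidHom.mem_ker, map_mul, map_mul, map_mul, ← hc, map_inv, map_inv]
        group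
      have := hQO _ (mul_mem (hQn.conj_mem q hq g) (inv_mem hq)) h1
      rw [mul_inv_eq_one, mul_inv_eq_iff_eq_mul] at this
      exact this.symm
    have hle : pCore 2 H ⊔ center H ≤ pCore 2 H ⊔ oddCore H := sup_le le_sup_left h.center_le
    have hm := hle (h.fitting_le (h.centralizer_two_le hg))
    have := mem_map_of_mem p hm
    have hbot : (oddCore H).map p = ⊥ := (Subgroup.map_eq_bot_iff _).2 (le_of_eq hker.symm)
    rwa [Subgroup.map_sup, hbot, sup_bot_eq, ← hV] at this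
  obtain ⟨e₀, he₀, e₁, he₁, hne01⟩ := h.two
  have hpne : ∀ a ∈ E, p a ≠ 1 := by
    intro a ha e
    rw [← MonoidHom.mem_ker, hker] at e
    have h2 : orderOf a ∣ 2 := orderOf_dvd_of_pow_eq_one (by rw [pow_two, h.tt.sq a ha])
    have h3 : Odd (orderOf a) :=
      CfsgLib.Cores.odd_card_oddCore.of_dvd_nat (Subgroup.orderOf_dvd_natCard _ e)
    rcases (Nat.dvd_prime Nat.prime_two).1 h2 with h1 | h1
    · exact h.tt.ne_one a ha (orderOf_eq_one_iff.1 h1)
    · rw [h1] at h3; exact absurd h3 (by decide)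
  have hE1 : IsThreeTranspositionClass (p '' E) := by
    refine ⟨⟨?_, ?_⟩, ⟨p e₀, ⟨e₀, he₀, rfl⟩, ?_⟩, ?_⟩
    · rintro _ ⟨a, ha, rfl⟩
      exact orderOf_eq_prime (by rw [pow_two, ← map_mul, h.tt.sq a ha, map_one]) (hpne a ha)
    · rintro _ ⟨a, ha, rfl⟩ _ ⟨b, hb, rfl⟩
      rw [← map_mul, ← map_pow, ← map_pow]
      rcases h.tt.cond a ha b hb with hc | hb'
      · left; rw [hc.mul_pow, pow_two, pow_two, h.tt.sq a ha, h.tt.sq b hb, one_mul, map_one]
      · right; rw [pow_three_eq_one (h.tt.sq a ha) (h.tt.sq b hb) hb', map_one]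
    · ext y
      constructor
      · rintro ⟨a, ha, rfl⟩
        obtain ⟨g, hg⟩ := h.cls e₀ he₀ a ha
        exact isConj_iff.2 ⟨p g, by rw [← hg]; simp⟩
      · intro hy
        obtain ⟨g, rfl⟩ := isConj_iff.1 (show IsConj (p e₀) y from hy)
        obtain ⟨g, rfl⟩ := hps g
        exact ⟨g * e₀ * g⁻¹, h.tt.conj g e₀ he₀, by simp⟩
    · rw [← MonoidHom.map_closure, h.gen, Subgroup.map_top_of_surjective _ hps]
  obtain ⟨π, hπ⟩ : ∃ π, π = (QuotientGroup.mk' V).comp p := ⟨_, rfl⟩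
  have hπs : Function.Surjective π := hπ ▸ (QuotientGroup.mk'_surjective V).comp hps
  have hπ1 : ∀ x, π x = 1 → x ∈ fittingSubgroup H := by
    intro x hx
    rw [hπ, MonoidHom.comp_apply, QuotientGroup.mk'_apply, QuotientGroup.eq_one_iff, hV] at hx
    obtain ⟨q, hq, e⟩ := hx
    have h1 : q⁻¹ * x ∈ oddCore H := by rw [← hker, MonoidHom.mem_ker, map_mul, map_inv, e, inv_mul_cancel]
    have hQF : pCore 2 H ≤ fittingSubgroup H := CfsgLib.Cores.le_fittingSubgroup hQp.isNilpotent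
    have hOF : oddCore H ≤ fittingSubgroup H :=
      h.le_fitting_of_odd fun y hy _ => h.odd hy
    have := mul_mem (hQF hq) (hOF h1)
    rwa [mul_inv_cancel_left] at this
  have hblock : ∀ a ∈ E, ∀ b ∈ E, (π a = π b ↔ a * b ∈ pCore 2 H) := by
    intro a ha b hb
    constructor
    · intro e
      have hF : a * b ∈ fittingSubgroup H := hπ1 _ (by
        rw [map_mul, e, ← map_mul, h.tt.sq b hb, map_one])
      rcases h.tt.cond a ha b hb with hc | hbr
      · exact hpb a ha b hb hc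
      · by_contra hn
        have h3 := pow_three_eq_one (h.tt.sq a ha) (h.tt.sq b hb) hbr
        have hodd : Odd (orderOf (a * b)) :=
          (show Odd 3 by decide).of_dvd_nat (orderOf_dvd_of_pow_eq_one h3)
        have hc := mem_center_iff.1 (h.central_of_odd hF hodd) a
        rw [← mul_assoc, h.tt.sq a ha, one_mul] at hc
        refine hn (hpb a ha b hb ?_)
        show a * b = b * a
        nth_rewrite 2 [hc]
        rw [mul_assoc (a * b) a a, h.tt.sq a ha, mul_one]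
    · intro hab
      have : π (a * b) = 1 := by
        rw [hπ, MonoidHom.comp_apply, QuotientGroup.mk'_apply, QuotientGroup.eq_one_iff, hV]
        exact mem_map_of_mem p hab
      rw [map_mul] at this
      rw [eq_inv_of_mul_eq_one_left this, ← map_inv, h.tt.inv_eq hb]
  have hw1 : IsW1 (π '' E) := by
    refine ⟨?_, ?_, ?_⟩
    · rintro _ ⟨a, ha, rfl⟩; rw [← map_mul, h.tt.sq a ha, map_one]
    · rintro _ ⟨a, ha, rfl⟩ _ ⟨b, hb, rfl⟩
      rcases h.tt.cond a ha b hb with hc | hbr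
      · rw [(hblock a ha b hb).2 (hpb a ha b hb hc)]
      · rw [← map_mul, ← map_mul, hbr, map_mul, map_mul]
    · rintro _ ⟨a, ha, rfl⟩ _ ⟨b, hb, rfl⟩
      exact ⟨a * b * a, h.tt.cj_mem ha hb, by simp⟩
  have hgenX : closure (π '' E) = ⊤ := by
    rw [← MonoidHom.map_closure, h.gen, Subgroup.map_top_of_surjective _ hπs]
  obtain ⟨a₀, ha₀, b₀, hb₀, hab₀⟩ : ∃ a ∈ E, ∃ b ∈ E, π a ≠ π b := by
    by_contra hall
    push Not at hall
    obtain ⟨x, hx, hnc⟩ := h.exists_noncomm_self he₀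
    exact hnc (h.block_commute he₀ hx ((hblock _ he₀ _ hx).1 (hall _ he₀ _ hx)))
  have hne1 : ∀ a ∈ E, π a ≠ 1 := by
    intro a ha e
    obtain ⟨g, hg⟩ := h.cls a ha a₀ ha₀
    obtain ⟨g', hg'⟩ := h.cls a ha b₀ hb₀
    exact hab₀ (by rw [← hg, ← hg']; simp [e])
  have hidx : (pCore 3 ((H ⧸ oddCore H) ⧸ V)).index = 2 := by
    refine Subgroup.index_eq_two_iff.2 ⟨π e₀, fun y => ?_⟩
    set P := pCore 3 ((H ⧸ oddCore H) ⧸ V)
    have h0 : π e₀ * π e₀ = 1 := by rw [← map_mul, h.tt.sq e₀ he₀, map_one]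
    have hnot : π e₀ ∉ P := by
      intro hm
      obtain ⟨k, hk⟩ := CfsgLib.Cores.isPGroup_pCore (G := (H ⧸ oddCore H) ⧸ V) 3 ⟨_, hm⟩
      have hk' : π e₀ ^ 3 ^ k = 1 := by simpa using congrArg Subtype.val hk
      obtain ⟨j, hj⟩ : Odd (3 ^ k) := Odd.pow (by decide)
      rw [hj, pow_succ, pow_mul, pow_two, h0, one_pow, one_mul] at hk'
      exact hne1 _ he₀ hk'
    have hor : y * π e₀ ∈ P ∨ y ∈ P := by
      have hy : y ∈ closure (π '' E) := hgenX ▸ mem_top y
      induction hy using closure_induction_left with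
      | one => exact Or.inr (one_mem _)
      | mul_left a ha b _ ih =>
        rcases ih with ih | ih
        · right
          have := mul_mem (hw1.mul_mem_pCore hgenX ha ⟨e₀, he₀, rfl⟩)
            ((inferInstance : P.Normal).conj_mem _ ih (π e₀))
          rw [inv_eq_self h0] at this
          simpa [mul_assoc, cancel₂ h0, h0] using this
        · left
          have := mul_mem (hw1.mul_mem_pCore hgenX ha ⟨e₀, he₀, rfl⟩)
            ((inferInstance : P.Normal).conj_mem _ ih (π e₀))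
          rw [inv_eq_self h0] at this
          simpa [mul_assoc, cancel₂ h0, h0] using this
      | inv_mul_cancel a ha b _ ih =>
        rw [inv_eq_self (hw1.sq a ha)]
        rcases ih with ih | ih
        · right
          have := mul_mem (hw1.mul_mem_pCore hgenX ha ⟨e₀, he₀, rfl⟩)
            ((inferInstance : P.Normal).conj_mem _ ih (π e₀))
          rw [inv_eq_self h0] at this
          simpa [mul_assoc, cancel₂ h0, h0] using this
        · left
          have := mul_mem (hw1.mul_mem_pCore hgenX ha ⟨e₀, he₀, rfl⟩)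
            ((inferInstance : P.Normal).conj_mem _ ih (π e₀))
          rw [inv_eq_self h0] at this
          simpa [mul_assoc, cancel₂ h0, h0] using this
    rcases hor with hl | hr
    · exact Or.inl ⟨hl, fun hr => hnot (by simpa using mul_mem (inv_mem hr) hl)⟩
    · exact Or.inr ⟨hr, fun hl => hnot (by simpa using mul_mem (inv_mem hr) hl)⟩
  obtain ⟨k, hk⟩ := IsPGroup.iff_card.1 (CfsgLib.Cores.isPGroup_pCore (G := (H ⧸ oddCore H) ⧸ V) 3)
  have hcard : Nat.card ((H ⧸ oddCore H) ⧸ V) = 2 * 3 ^ k := by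
    rw [← (pCore 3 ((H ⧸ oddCore H) ⧸ V)).card_mul_index, hk, hidx, mul_comm]
  have hk0 : k ≠ 0 := by
    intro e
    subst e
    rw [pow_zero, mul_one] at hcard
    obtain ⟨b, -, hb⟩ := (Nat.card_eq_two_iff' (1 : (H ⧸ oddCore H) ⧸ V)).1 hcard
    exact hab₀ ((hb _ (hne1 _ ha₀)).trans (hb _ (hne1 _ hb₀)).symm)
  obtain ⟨-, hlift⟩ := RadicalFiftyFour.inv23_quot V hE1 hcard
  obtain ⟨⟨d, e, f, ⟨hd, hd1⟩, ⟨he, he1⟩, ⟨hf, hf1⟩, htop⟩, -⟩ :=
    RadicalFiftyFour.quot_three_gen V hE1 hVp hC hcard hk0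
  have hl : ∀ i : (H ⧸ oddCore H) ⧸ V, i * i = 1 → i ≠ 1 → ∃ a ∈ E, π a = i := by
    intro i hi hi1
    obtain ⟨_, ⟨a, ha, rfl⟩, hai⟩ := hlift i hi hi1
    exact ⟨a, ha, hπ ▸ hai⟩
  obtain ⟨a, ha, rfl⟩ := hl d hd hd1
  obtain ⟨b, hb, rfl⟩ := hl e he he1
  obtain ⟨c, hc, rfl⟩ := hl f hf hf1
  refine ⟨_, inferInstance, inferInstance, π, ⟨hπs, hw1, hblock⟩, ?_⟩
  have pair : ∀ x ∈ E, ∀ y ∈ E, (∀ z ∈ ({π a, π b, π c} : Set ((H ⧸ oddCore H) ⧸ V)),
      z ∈ closure ({π x, π y} : Set ((H ⧸ oddCore H) ⧸ V))) →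
      ∃ a ∈ E, ∃ b ∈ E, π a ≠ π b ∧ closure ({π a, π b} : Set ((H ⧸ oddCore H) ⧸ V)) = ⊤ := by
    intro x hx y hy hsub
    have ht : closure ({π x, π y} : Set ((H ⧸ oddCore H) ⧸ V)) = ⊤ :=
      eq_top_iff.2 (htop ▸ (closure_le _).2 hsub)
    refine ⟨x, hx, y, hy, fun e => ?_, ht⟩
    rw [e, Set.insert_eq_of_mem (Set.mem_singleton _), ← zpowers_eq_closure] at ht
    have h2 : Nat.card (zpowers (π y)) ≤ 2 := by
      rw [Nat.card_zpowers]
      exact orderOf_le_of_pow_eq_one (by norm_num) (by rw [pow_two, ← map_mul, h.tt.sq y hy, map_one])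
    rw [ht, Subgroup.card_top, hcard] at h2
    have : 3 ≤ 3 ^ k := Nat.le_self_pow hk0 3
    omega
  have hsub2 : ∀ x y : (H ⧸ oddCore H) ⧸ V, x ∈ closure ({x, y} : Set ((H ⧸ oddCore H) ⧸ V)) ∧
      y ∈ closure ({x, y} : Set ((H ⧸ oddCore H) ⧸ V)) := fun x y =>
    ⟨subset_closure (by simp), subset_closure (by simp)⟩
  by_cases h1 : π a = π b
  · refine Or.inl (pair a ha c hc ?_)
    rintro z (rfl | rfl | rfl)
    exacts [(hsub2 _ _).1, h1 ▸ (hsub2 _ _).1, (hsub2 _ _).2]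
  by_cases h2 : π a = π c
  · refine Or.inl (pair a ha b hb ?_)
    rintro z (rfl | rfl | rfl)
    exacts [(hsub2 _ _).1, (hsub2 _ _).2, h2 ▸ (hsub2 _ _).1]
  by_cases h3 : π c = π b
  · refine Or.inl (pair a ha b hb ?_)
    rintro z (rfl | rfl | rfl)
    exacts [(hsub2 _ _).1, (hsub2 _ _).2, h3 ▸ (hsub2 _ _).2]
  by_cases h4 : π c = π a * π b * π a
  · refine Or.inl (pair a ha b hb ?_)
    rintro z (rfl | rfl | rfl)
    exacts [(hsub2 _ _).1, (hsub2 _ _).2, h4 ▸ mul_mem (mul_mem (hsub2 _ _).1 (hsub2 _ _).2) (hsub2 _ _).1]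
  refine Or.inr ⟨a, ha, b, hb, c, hc, h1, h2, h3, h4, htop, ?_⟩
  obtain ⟨P⟩ : Nonempty (Sylow 3 ((H ⧸ oddCore H) ⧸ V)) := inferInstance
  have hPeq : (P : Subgroup ((H ⧸ oddCore H) ⧸ V)) = pCore 3 ((H ⧸ oddCore H) ⧸ V) := by
    refine (Subgroup.eq_of_le_of_card_ge ?_ ?_).symm
    · exact CfsgLib.Cores.pCore_le_sylow P
    · rw [P.card_eq_multiplicity, hk, hcard, Nat.factorization_mul (by norm_num) (by positivity),
        Nat.Prime.factorization_pow Nat.prime_three]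
      simp [Nat.Prime.factorization Nat.prime_two]
  have hPn : (P : Subgroup ((H ⧸ oddCore H) ⧸ V)).Normal := by rw [hPeq]; infer_instance
  rcases RadicalFiftyFour.quot_iso V hE1 ⟨p a₀, ⟨a₀, ha₀, rfl⟩, p b₀, ⟨b₀, hb₀, rfl⟩, fun heq => hab₀ (by rw [hπ]; simp only [MonoidHom.comp_apply, heq])⟩ hVp hC hPn
      ⟨1, by rw [hPeq, hidx]; norm_num⟩ with ⟨⟨φ⟩⟩ | ⟨F, _, _, hF, ⟨φ⟩⟩
  · rw [Nat.card_congr φ.toEquiv]
    exfalso
    have hA : π a ∈ π '' E := ⟨a, ha, rfl⟩
    have hB : π b ∈ π '' E := ⟨b, hb, rfl⟩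
    have hC' : π c ∈ π '' E := ⟨c, hc, rfl⟩
    have hinj := pl_injOn hw1 hA hB hC' h1 h2 h3 h4
    have h9 : 9 ≤ Nat.card ((H ⧸ oddCore H) ⧸ V) := by
      have := Nat.card_le_card_of_injective (fun i : Fin 9 => pl (π a) (π b) (π c) i)
        fun i j e => Fin.ext (hinj i.isLt j.isLt e)
      rwa [Nat.card_fin] at this
    rw [Nat.card_congr φ.toEquiv, Nat.card_perm, Nat.card_fin] at h9
    exact absurd h9 (by decide)
  · rw [Nat.card_congr φ.toEquiv]
    exact (Affine54.model (F := F) hF).1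

end CfsgLib.ThreeTransp.SolLink
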