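import Cfsg.Agent.Lib.ThreeTransp.SolLink.Lines
import Cfsg.Agent.Lib.ThreeTransp.SolLink.Quot
import Cfsg.Agent.Lib.ThreeTransp.SolLink.GQDvd

/-!
The parameters of the quadrangle.
-/

set_option autoImplicit false
set_option maxRecDepth 100000
set_option linter.unusedSectionVars false
set_option linter.style.haveILetI false

universe u

namespace CfsgLib.ThreeTransp.SolLink

open Subgroup Cfsg

variable {H : Type u} [Group H] {E : Set H} {X : Type u} [Group X] {π : H →* X}

theorem frame_conj (hc : ∀ a ∈ E, ∀ b ∈ E, ∃ g : H, g * a * g⁻¹ = b) {a : H} (ha : a ∈ E) {y : X}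
    (hy : y ∈ π '' E) : ∃ g, g * π a * g⁻¹ = y := by
  obtain ⟨b, hb, rfl⟩ := hy
  obtain ⟨g, rfl⟩ := hc a ha b hb
  exact ⟨π g, by simp⟩

theorem frame_pl_mem (hE : IsTT E) (hs : Function.Surjective π) {a : H} (ha : a ∈ E) (B C : X) (i : ℕ) :
    pl (π a) B C i ∈ π '' E := by
  obtain ⟨g, hg⟩ := hs (CosetCert.act (three (π a) B C) (dataPlane.rep i))
  exact ⟨g * a * g⁻¹, hE.conj g a ha, by rw [map_mul, map_mul, map_inv, hg]; rfl⟩

theorem frame_image_pair (h : SolTT E) (hw : IsW1 (π '' E)) (hs : Function.Surjective π) {a b : H}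
    (ha : a ∈ E) (hb : b ∈ E) (htop : closure ({π a, π b} : Set X) = ⊤) :
    π '' E = pl (π a) (π b) (π a * π b * π a) '' {i | i ∈ row} := by
  have hA : π a ∈ π '' E := ⟨a, ha, rfl⟩
  have hB : π b ∈ π '' E := ⟨b, hb, rfl⟩
  have hC : π a * π b * π a ∈ π '' E := hw.closed _ hA _ hB
  refine Set.Subset.antisymm (fun y hy => ?_) ?_
  · refine pl_cover hw hA hB hC (I := {i | i ∈ row}) (T := {0, 1}) row_lt (by simp [row])
      (by rintro g (rfl | rfl) <;> norm_num) (fun i hi g hg => ?_) ?_ (frame_conj h.cls ha hy)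
    · rcases hg with rfl | rfl
      exacts [(row_closed i hi).1, (row_closed i hi).2]
    · simpa [Set.image_insert_eq, three] using htop
  · rintro _ ⟨i, -, rfl⟩
    exact frame_pl_mem h.tt hs ha _ _ i

theorem frame_image_triple (h : SolTT E) (hw : IsW1 (π '' E)) (hs : Function.Surjective π) {a b c : H}
    (ha : a ∈ E) (hb : b ∈ E) (hc : c ∈ E) (htop : closure ({π a, π b, π c} : Set X) = ⊤) :
    π '' E = pl (π a) (π b) (π c) '' {i | i < 9} := by
  have hA : π a ∈ π '' E := ⟨a, ha, rfl⟩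
  have hB : π b ∈ π '' E := ⟨b, hb, rfl⟩
  have hC : π c ∈ π '' E := ⟨c, hc, rfl⟩
  refine Set.Subset.antisymm (fun y hy => ?_) ?_
  · refine pl_cover hw hA hB hC (I := {i | i < 9}) (T := {g | g < 3}) (fun i hi => hi) (by simp)
      (fun g hg => hg) (fun i hi g hg => ?_) ?_ (frame_conj h.cls ha hy)
    · exact (pl_act hw hA hB hC hi [g] (by simpa using hg)).1
    · rw [eq_top_iff, ← htop]
      refine closure_mono ?_
      rintro z (rfl | rfl | rfl)
      exacts [⟨0, by norm_num, by simp [three]⟩, ⟨1, by norm_num, by simp [three]⟩,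
        ⟨2, by norm_num, by simp [three]⟩]
  · rintro _ ⟨i, -, rfl⟩
    exact frame_pl_mem h.tt hs ha _ _ i

theorem frame_card_pair (h : SolTT E) (hw : IsW1 (π '' E)) (hs : Function.Surjective π) {a b : H}
    (ha : a ∈ E) (hb : b ∈ E) (hab : π a ≠ π b) (htop : closure ({π a, π b} : Set X) = ⊤) :
    (π '' E).ncard = 3 := by
  have hA : π a ∈ π '' E := ⟨a, ha, rfl⟩
  have hB : π b ∈ π '' E := ⟨b, hb, rfl⟩
  rw [frame_image_pair h hw hs ha hb htop,
    Set.ncard_image_of_injOn (pl_injOn_row hw hA hB (hw.closed _ hA _ hB) hab),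
    show {i | i ∈ row} = (↑([0, 3, 1] : List ℕ).toFinset : Set ℕ) by ext; simp [row], Set.ncard_coe_finset]
  rfl

theorem frame_card_triple (h : SolTT E) (hw : IsW1 (π '' E)) (hs : Function.Surjective π) {a b c : H}
    (ha : a ∈ E) (hb : b ∈ E) (hc : c ∈ E) (hab : π a ≠ π b) (hac : π a ≠ π c) (hcb : π c ≠ π b)
    (haba : π c ≠ π a * π b * π a) (htop : closure ({π a, π b, π c} : Set X) = ⊤) :
    (π '' E).ncard = 9 := by
  rw [frame_image_triple h hw hs ha hb hc htop,
    Set.ncard_image_of_injOn (pl_injOn hw ⟨a, ha, rfl⟩ ⟨b, hb, rfl⟩ ⟨c, hc, rfl⟩ hab hac hcb haba),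
    show {i : ℕ | i < 9} = (↑(Finset.range 9) : Set ℕ) by ext; simp, Set.ncard_coe_finset, Finset.card_range]

variable {G : Type u} [Group G] {D : Set G}

/-- A member of the link in the group it generates. -/
def toH {x a : G} (ha : a ∈ link D x) : ↥(closure (link D x)) := ⟨a, subset_closure ha⟩

/-- The members of `D` not commuting with `x`. -/
def nn (D : Set G) (x : G) : Set G := {y | y ∈ D ∧ ¬ Commute x y}

/-- The members of `D` adjacent to both `x` and `z`. -/
def common (D : Set G) (x z : G) : Set G := {a | a ∈ link D x ∧ Commute a z}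

variable [Finite G]

namespace SolLinks

variable (h : SolLinks D)
include h

theorem perp_block {x : G} (hx : x ∈ D) : ∀ a ∈ linkE D x, ∀ b ∈ linkE D x, Commute a b →
    a * b ∈ pCore 2 ↥(closure (link D x)) := by
  intro a ha b hb hab
  have hS := h.solLink x hx
  have hxa : Adj D x a := ⟨hx, ha.1, ha.2.1.symm, ha.2.2⟩
  have hl := h.mem_line hxa hb.1 hb.2.2.symm (congrArg Subtype.val hab.symm.eq)
  rw [h.line_eq hxa] at hl
  rcases hl with he | ⟨b', hb', he⟩
  · exact absurd he hb.2.1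
  · obtain rfl : b' = b := Subtype.ext he
    exact hb'.2

theorem line_ncard_block {x a : G} (hxa : Adj D x a) :
    (line D x a).ncard = (blockSet (linkE D x) ⟨a, subset_closure hxa.mem_link⟩).ncard + 1 := by
  rw [h.line_eq hxa, Set.ncard_insert_of_notMem ?_ (Set.toFinite _),
    Set.ncard_image_of_injective _ Subtype.val_injective]
  rintro ⟨z, hz, hzx⟩
  exact hz.1.2.1 hzx

theorem common_inj {x z : G} (hx : x ∈ D) (hz : z ∈ nn D x) {a b : G} (ha : a ∈ common D x z)
    (hb : b ∈ common D x z) (hab : Commute a b) : a = b := by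
  by_contra hne
  refine hz.2 ?_
  have hadj : Adj D a b := ⟨ha.1.1, hb.1.1, hne, hab⟩
  have hxL : x ∈ line D a b := h.mem_line hadj hx ha.1.2.2 hb.1.2.2
  have hzL : z ∈ line D a b := h.mem_line hadj hz.1 ha.2.symm hb.2.symm
  exact line_commute hadj hxL hzL

theorem exists_common {x z : G} (hx : x ∈ D) (hz : z ∈ nn D x) {a : G} (ha : a ∈ link D x) :
    ∃ b, ∃ hb : b ∈ common D x z,
      toH ha * toH hb.1 ∈ pCore 2 ↥(closure (link D x)) := by
  have hxa : Adj D x a := ⟨hx, ha.1, ha.2.1.symm, ha.2.2⟩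
  obtain ⟨b, hb, hzb⟩ := h.exists_commute hxa hz.1
  rw [h.line_eq hxa] at hb
  rcases hb with rfl | ⟨b', hb', rfl⟩
  · exact absurd hzb.symm hz.2
  · exact ⟨b', ⟨hb'.1, hzb.symm⟩, hb'.2⟩

theorem common_ncard {x z : G} (hx : x ∈ D) (hz : z ∈ nn D x) {X : Type u} [Group X]
    {π : ↥(closure (link D x)) →* X} (hblock : ∀ a ∈ linkE D x, ∀ b ∈ linkE D x,
      (π a = π b ↔ a * b ∈ pCore 2 ↥(closure (link D x)))) :
    (common D x z).ncard = (π '' linkE D x).ncard := by
  refine Set.ncard_congr (fun a ha => π (toH ha.1)) (fun a ha => ⟨_, ha.1, rfl⟩) (fun a b ha hb e => ?_) ?_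
  · refine h.common_inj hx hz ha hb ?_
    exact congrArg Subtype.val
      ((h.solLink x hx).block_commute ha.1 hb.1 ((hblock _ ha.1 _ hb.1).1 e)).eq
  · rintro _ ⟨c, hc, rfl⟩
    obtain ⟨b, hb, hcb⟩ := h.exists_common hx hz (show (c : G) ∈ link D x from hc)
    exact ⟨b, hb, ((hblock c hc _ hb.1).2 hcb).symm⟩

theorem link_split {x w : G} (hxw : Adj D x w) :
    link D w = {y | y ∈ nn D x ∧ Commute y w} ∪ (line D x w \ {w}) := by
  ext y
  constructor
  · rintro ⟨hy, hyw, hwy⟩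
    by_cases hxy : Commute x y
    · exact Or.inr ⟨h.mem_line hxw hy hxy.symm hwy.symm, hyw⟩
    · exact Or.inl ⟨⟨hy, hxy⟩, hwy.symm⟩
  · rintro (⟨⟨hy, hxy⟩, hyw⟩ | ⟨hy, hyw⟩)
    · exact ⟨hy, fun e => hxy (e ▸ hxw.2.2.2), hyw.symm⟩
    · exact ⟨hy.1, hyw, line_commute hxw (right_mem_line hxw) hy⟩

/-- The parameters. -/
theorem exists_params {x₀ : G} (hx₀ : x₀ ∈ D) : ∃ s t : ℕ, (∃ k, 1 ≤ k ∧ s = 2 ^ k) ∧ (t = 2 ∨ t = 8) ∧
    (∀ x ∈ D, (link D x).ncard = (t + 1) * s) ∧ (∀ x y, Adj D x y → (line D x y).ncard = s + 1) ∧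
    (∀ x ∈ D, ∀ z ∈ nn D x, (common D x z).ncard = t + 1) ∧ (∀ x ∈ D, (nn D x).ncard = t * s ^ 2) ∧
    s + t ∣ s ^ 2 * (s * t + 1) := by
  classical
  haveI := Fintype.ofFinite G
  obtain ⟨a₀, ha₀, -⟩ := (h.solLink x₀ hx₀).two
  have hadj₀ : Adj D x₀ a₀ := ⟨hx₀, ha₀.1, ha₀.2.1.symm, ha₀.2.2⟩
  obtain ⟨k, hk, hline, -⟩ := h.line_ncard hadj₀
  have hlines : ∀ x y, Adj D x y → (line D x y).ncard = 2 ^ k + 1 := fun x y hxy =>
    (h.line_ncard_eq hxy hadj₀).trans hline
  -- blocks at each point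
  have hblk : ∀ x, ∀ hx : x ∈ D, ∃ T, (T = 3 ∨ T = 9) ∧ (link D x).ncard = T * 2 ^ k ∧
      ∀ z ∈ nn D x, (common D x z).ncard = T := by
    intro x hx
    have hS := h.solLink x hx
    obtain ⟨X, _, _, π, ⟨hs, hw, hblock⟩, hcase⟩ := exists_frame hS (h.perp_block hx)
    refine ⟨(π '' linkE D x).ncard, ?_, ?_, fun z hz => h.common_ncard hx hz hblock⟩
    · rcases hcase with ⟨a, ha, b, hb, hab, htop⟩ | ⟨a, ha, b, hb, c, hc, h1, h2, h3, h4, htop, -⟩
      · exact Or.inl (frame_card_pair hS hw hs ha hb hab htop)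
      · exact Or.inr (frame_card_triple hS hw hs ha hb hc h1 h2 h3 h4 htop)
    · have himg : (link D x).ncard = (linkE D x).ncard := by
        rw [← Set.ncard_image_of_injective (linkE D x) Subtype.val_injective]
        congr 1
        exact Set.ext fun y => ⟨fun hy => ⟨toH hy, hy, rfl⟩, fun ⟨b, hb, e⟩ => e ▸ hb⟩
      rw [himg, Set.ncard_eq_toFinset_card', Set.ncard_eq_toFinset_card', Set.toFinset_image]
      rw [Finset.card_eq_sum_card_image π (linkE D x).toFinset]
      refine Finset.sum_const_nat (m := 2 ^ k) ?_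
      intro y hy
      obtain ⟨a, ha, rfl⟩ := Finset.mem_image.1 hy
      rw [Set.mem_toFinset] at ha
      have hxa : Adj D x a := ⟨hx, ha.1, ha.2.1.symm, ha.2.2⟩
      have h1 := h.line_ncard_block hxa
      rw [hlines x a hxa] at h1
      have e : 2 ^ k = (blockSet (linkE D x) a).ncard := Nat.add_right_cancel h1
      rw [e, Set.ncard_eq_toFinset_card']
      congr 1
      ext b
      simp only [Finset.mem_filter, Set.mem_toFinset]
      exact and_congr_right fun hb => eq_comm.trans (hblock a ha b hb)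
  choose T hT hTk hTc using hblk
  have hTeq : ∀ x hx, T x hx = T x₀ hx₀ := by
    intro x hx
    have := link_ncard_eq h.fis.tt h.fis.isClass hx hx₀
    rw [hTk x hx, hTk x₀ hx₀] at this
    exact Nat.eq_of_mul_eq_mul_right (Nat.two_pow_pos k) this
  obtain ⟨t, ht, htT⟩ : ∃ t, (t = 2 ∨ t = 8) ∧ T x₀ hx₀ = t + 1 := by
    rcases hT x₀ hx₀ with e | e
    exacts [⟨2, Or.inl rfl, e⟩, ⟨8, Or.inr rfl, e⟩]
  have hlink : ∀ x ∈ D, (link D x).ncard = (t + 1) * 2 ^ k := fun x hx => by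
    rw [hTk x hx, hTeq, htT]
  have hcom : ∀ x ∈ D, ∀ z ∈ nn D x, (common D x z).ncard = t + 1 := fun x hx z hz => by
    rw [hTc x hx z hz, hTeq, htT]
  have hnn : ∀ x ∈ D, (nn D x).ncard = t * (2 ^ k) ^ 2 := by
    intro x hx
    have hcount := Finset.card_mul_eq_card_mul (s := (link D x).toFinset) (t := (nn D x).toFinset)
      (fun w y => Commute y w) (m := t * 2 ^ k) (n := t + 1) ?_ ?_
    · rw [← Set.ncard_eq_toFinset_card', ← Set.ncard_eq_toFinset_card', hlink x hx] at hcount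
      refine Nat.eq_of_mul_eq_mul_right (show 0 < t + 1 by omega) ?_
      rw [← hcount]; ring
    · intro w hw
      rw [Set.mem_toFinset] at hw
      have hxw : Adj D x w := ⟨hx, hw.1, hw.2.1.symm, hw.2.2⟩
      have e := congrArg Set.ncard (h.link_split hxw)
      rw [hlink w hw.1, Set.ncard_union_eq ?_ (Set.toFinite _) (Set.toFinite _),
        Set.ncard_diff_singleton_of_mem (right_mem_line hxw), hlines x w hxw, Nat.add_sub_cancel] at e
      · rw [show ((nn D x).toFinset.bipartiteAbove (fun w y => Commute y w) w).card =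
            {y | y ∈ nn D x ∧ Commute y w}.ncard by
          rw [Set.ncard_eq_toFinset_card']; congr 1; ext y; simp [Finset.bipartiteAbove]]
        rw [Nat.add_mul, one_mul] at e
        omega
      · exact Set.disjoint_left.2 fun y hy hy' => hy.1.2 (line_commute hxw (left_mem_line hxw) hy'.1)
    · intro y hy
      rw [Set.mem_toFinset] at hy
      rw [← hcom x hx y hy, Set.ncard_eq_toFinset_card']
      congr 1
      ext w
      simp only [Finset.bipartiteBelow, Finset.mem_filter, Set.mem_toFinset]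
      exact and_congr_right fun _ => ⟨Commute.symm, Commute.symm⟩
  refine ⟨2 ^ k, t, ⟨k, hk, rfl⟩, ht, hlink, hlines, hcom, hnn, ?_⟩
  refine gq_dvd (V := D) (fun a b : D => Adj D (a : G) b) (fun a b hab => hab.symm)
    (fun a ha => ha.2.2.1 rfl) Nat.one_le_two_pow (fun a => ?_) (fun a b hab => ?_) (fun a b hne hab => ?_) ?_
  · rw [← hlink a a.2, ← Nat.card_coe_set_eq]
    exact Nat.card_congr
      { toFun := fun y => ⟨(y.1 : G), y.2.mem_link⟩
        invFun := fun y => ⟨⟨y.1, y.2.1⟩, a.2, y.2.1, y.2.2.1.symm, y.2.2.2⟩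
        left_inv := fun y => rfl
        right_inv := fun y => rfl }
  · rw [show 2 ^ k - 1 = (line D (a : G) b \ {(a : G), (b : G)}).ncard by
      rw [Set.ncard_diff (by rintro z (rfl | rfl); exacts [left_mem_line hab, right_mem_line hab]),
        Set.ncard_pair hab.2.2.1, hlines _ _ hab]
      omega, ← Nat.card_coe_set_eq]
    exact Nat.card_congr
      { toFun := fun y => ⟨(y.1 : G), h.mem_line hab y.1.2 y.2.1.2.2.2.symm y.2.2.2.2.2.symm, by
          rintro (e | e)
          exacts [y.2.1.2.2.1 e.symm, y.2.2.2.2.1 e.symm]⟩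
        invFun := fun y => ⟨⟨y.1, y.2.1.1⟩, ⟨a.2, y.2.1.1, fun e => y.2.2 (Or.inl e.symm),
          line_commute hab (left_mem_line hab) y.2.1⟩, ⟨b.2, y.2.1.1, fun e => y.2.2 (Or.inr e.symm),
          line_commute hab (right_mem_line hab) y.2.1⟩⟩
        left_inv := fun y => rfl
        right_inv := fun y => rfl }
  · have hnc : ¬ Commute (a : G) b := fun hc => hab ⟨a.2, b.2, fun e => hne (Subtype.ext e), hc⟩
    rw [← hcom a a.2 b ⟨b.2, hnc⟩, ← Nat.card_coe_set_eq]
    exact Nat.card_congr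
      { toFun := fun y => ⟨(y.1 : G), y.2.1.mem_link, y.2.2.2.2.2.symm⟩
        invFun := fun y => ⟨⟨y.1, y.2.1.1⟩, ⟨a.2, y.2.1.1, y.2.1.2.1.symm, y.2.1.2.2⟩,
          ⟨b.2, y.2.1.1, fun e => hnc (e ▸ y.2.1.2.2), y.2.2.symm⟩⟩
        left_inv := fun y => rfl
        right_inv := fun y => rfl }
  · have hDeq : D = insert x₀ (link D x₀ ∪ nn D x₀) := by
      ext y
      constructor
      · intro hy
        by_cases hyx : y = x₀
        · exact Or.inl hyx
        by_cases hc : Commute x₀ y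
        exacts [Or.inr (Or.inl ⟨hy, hyx, hc⟩), Or.inr (Or.inr ⟨hy, hc⟩)]
      · rintro (rfl | hy | hy)
        exacts [hx₀, hy.1, hy.1]
    have hcard : D.ncard = 1 + (t + 1) * 2 ^ k + t * (2 ^ k) ^ 2 := by
      have h1 : x₀ ∉ link D x₀ ∪ nn D x₀ := fun hy =>
        hy.elim (fun hy => hy.2.1 rfl) (fun hy => hy.2 (Commute.refl _))
      have h2 : Disjoint (link D x₀) (nn D x₀) := Set.disjoint_left.2 fun y hy hy' => hy'.2 hy.2.2
      rw [congrArg Set.ncard hDeq, Set.ncard_insert_of_notMem h1 (Set.toFinite _),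
        Set.ncard_union_eq h2 (Set.toFinite _) (Set.toFinite _), hlink x₀ hx₀, hnn x₀ hx₀]
      ring
    rw [← hcard, ← Nat.card_coe_set_eq, Nat.card_eq_fintype_card]

end SolLinks

end CfsgLib.ThreeTransp.SolLink
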