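import Cfsg.Agent.Lib.CosetCert.Basic
import Cfsg.Agent.Lib.Presentations.SUPres.Cert
import Cfsg.Agent.Lib.Presentations.SUPres.Pack

/-!
Words in involutions and what a verified coset table says about the subgroup they generate.
-/

set_option autoImplicit false

namespace CfsgLib.ThreeTransp.SolLink

open CosetCert

/-- The word of the conjugate of letter `k` by the word `v`. -/
def cword (k : ℕ) (v : List ℕ) : List ℕ := v.reverse ++ k :: v

/-- A word repeated. -/
def pw (w : List ℕ) : ℕ → List ℕ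
  | 0 => []
  | n + 1 => w ++ pw w n

/-- A letter, a conjugate of a letter and the order of their product. -/
abbrev HRel : Type := ℕ × List ℕ × ℕ × ℕ

/-- The relator of such a datum. -/
def hWord (t : HRel) : List ℕ := pw (t.1 :: cword t.2.2.1 t.2.1) t.2.2.2

variable {M : Type*} [Group M] {e : ℕ → M}

theorem act_singleton (g : ℕ) : act e [g] = e g := by rw [act_cons, act_nil, one_mul]

theorem act_reverse (he : ∀ g, e g * e g = 1) : ∀ v : List ℕ, act e v.reverse = (act e v)⁻¹
  | [] => by simp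
  | g :: v => by
    rw [List.reverse_cons, act_append, act_singleton, act_reverse he v, act_cons, mul_inv_rev,
      inv_eq_of_mul_eq_one_right (he g)]

theorem act_cword (he : ∀ g, e g * e g = 1) (k : ℕ) (v : List ℕ) :
    act e (cword k v) = act e v * e k * (act e v)⁻¹ := by
  rw [cword, act_append, act_cons, act_reverse he]

theorem act_pw (w : List ℕ) : ∀ n, act e (pw w n) = act e w ^ n
  | 0 => by simp [pw]
  | n + 1 => by rw [pw, act_append, act_pw w n, pow_succ]

theorem act_hWord (he : ∀ g, e g * e g = 1) (t : HRel) :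
    act e (hWord t) = (act e t.2.1 * e t.2.2.1 * (act e t.2.1)⁻¹ * e t.1) ^ t.2.2.2 := by
  rw [hWord, act_pw, act_cons, act_cword he]

theorem act_pair (i j m : ℕ) : act e (pw [i, j] m) = (e j * e i) ^ m := by
  rw [act_pw, act_cons, act_singleton]

variable {C : Data} {tree : List (ℕ × ℕ)} {steps : List (ℕ × ℕ × ℕ)} (L : Subgroup M)

theorem coset_check (hc : check C tree steps = true) (hiv : ∀ g, C.iv g = g) (he : ∀ g, e g * e g = 1)
    (hrel : ∀ w ∈ C.rels, act e w = 1) (hsub : ∀ w ∈ C.subs, act e w ∈ L) :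
    pt C e ((1 : M) : M ⧸ L) 0 = ((1 : M) : M ⧸ L) ∧ ∀ i g, i < C.n → g < C.ng →
      C.tbl i g < C.n ∧ e g • pt C e ((1 : M) : M ⧸ L) i = pt C e ((1 : M) : M ⧸ L) (C.tbl i g) :=
  check_sound hc (fun g _ => by rw [hiv, inv_eq_of_mul_eq_one_right (he g)]) hrel fun w hw => by
    show ((act e w * 1 : M) : M ⧸ L) = ((1 : M) : M ⧸ L)
    rw [mul_one, QuotientGroup.eq, mul_one]
    exact inv_mem (hsub w hw)

/-- A word leading back to the first coset lies in the subgroup. -/
theorem mem_of_fold (hc : check C tree steps = true) (hn : 0 < C.n) (hiv : ∀ g, C.iv g = g)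
    (he : ∀ g, e g * e g = 1) (hrel : ∀ w ∈ C.rels, act e w = 1) (hsub : ∀ w ∈ C.subs, act e w ∈ L)
    {w : List ℕ} (hw : ∀ g ∈ w, g < C.ng) (h0 : w.foldl C.tbl 0 = 0) : act e w ∈ L := by
  obtain ⟨h1, hT⟩ := coset_check L hc hiv he hrel hsub
  have h2 := (table_act hT w hn hw).2
  rw [h0, h1] at h2
  change ((act e w * 1 : M) : M ⧸ L) = ((1 : M) : M ⧸ L) at h2
  rw [QuotientGroup.eq, mul_one, mul_one] at h2
  exact inv_mem_iff.1 h2

/-- The group generated by the letters has at most `n · |L|` elements. -/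
theorem card_closure_le [Finite M] (hc : check C tree steps = true) (hn : 0 < C.n) (hiv : ∀ g, C.iv g = g)
    (he : ∀ g, e g * e g = 1) (hrel : ∀ w ∈ C.rels, act e w = 1) (hsub : ∀ w ∈ C.subs, act e w ∈ L) :
    Nat.card ↥(Subgroup.closure (e '' {g | g < C.ng})) ≤ C.n * Nat.card L := by
  obtain ⟨h1, hT⟩ := coset_check L hc hiv he hrel hsub
  let φ : Fin C.n × L → M := fun p => act e (C.rep p.1.val) * p.2
  have key : ∀ y ∈ Subgroup.closure (e '' {g | g < C.ng}),
      ∃ i, i < C.n ∧ (y • ((1 : M) : M ⧸ L)) = pt C e ((1 : M) : M ⧸ L) i := by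
    intro y hy
    induction hy using Subgroup.closure_induction_left with
    | one => exact ⟨0, hn, by rw [one_smul, h1]⟩
    | mul_left a ha b _ ih =>
      obtain ⟨g, hg, rfl⟩ := ha
      obtain ⟨i, hi, e1⟩ := ih
      exact ⟨_, (hT i g hi hg).1, by rw [mul_smul, e1, (hT i g hi hg).2]⟩
    | inv_mul_cancel a ha b _ ih =>
      obtain ⟨g, hg, rfl⟩ := ha
      obtain ⟨i, hi, e1⟩ := ih
      exact ⟨_, (hT i g hi hg).1, by
        rw [inv_eq_of_mul_eq_one_right (he g), mul_smul, e1, (hT i g hi hg).2]⟩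
  have hsub' : (Subgroup.closure (e '' {g | g < C.ng}) : Set M) ⊆ Set.range φ := by
    intro y hy
    obtain ⟨i, hi, e1⟩ := key y hy
    change ((y * 1 : M) : M ⧸ L) = ((act e (C.rep i) * 1 : M) : M ⧸ L) at e1
    rw [mul_one, mul_one, eq_comm, QuotientGroup.eq] at e1
    exact ⟨(⟨i, hi⟩, ⟨_, e1⟩), mul_inv_cancel_left _ _⟩
  refine le_of_eq_of_le (Nat.card_coe_set_eq _) (le_trans (Set.ncard_le_ncard hsub' (Set.finite_range _)) ?_)
  rw [← Nat.card_coe_set_eq]
  refine (Finite.card_range_le φ).trans (le_of_eq ?_)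
  rw [Nat.card_prod, Nat.card_fin]

end CfsgLib.ThreeTransp.SolLink
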