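import Cfsg.Agent.Lib.ThreeTransp.SolLink.Setup

/-!
Nine lines through a point: the block size is four and the relations of `PSU(5, 2)` hold.
-/

set_option autoImplicit false
set_option maxRecDepth 100000
set_option linter.unusedSectionVars false
set_option linter.style.haveILetI false

universe u

namespace CfsgLib.ThreeTransp.SolLink

open Subgroup Cfsg CosetCert

section Roles

variable {H : Type u} [Group H] [Finite H] {E : Set H} {X : Type u} [Group X] {π : H →* X}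

theorem Quad.change {a b c a' a₁ b₁ c₁ a₁' : H} (q : Quad E X π a b c a') (ha : a₁ ∈ E) (hb : b₁ ∈ E)
    (hc : c₁ ∈ E) (ha' : a₁' ∈ E) (ea : π a₁ = π a) (eb : π b₁ = π b) (ec : π c₁ = π c)
    (ea' : π a₁' = π a) : Quad E X π a₁ b₁ c₁ a₁' :=
  ⟨q.frame, ha, hb, hc, ha', by rw [ea, eb]; exact q.hab, by rw [ea, ec]; exact q.hac,
    by rw [ec, eb]; exact q.hcb, by rw [ea, eb, ec]; exact q.haba, by rw [ea, eb, ec]; exact q.top, q.card,
    by rw [ea', ea]⟩

theorem Quad.swap {a b c a' b' : H} (q : Quad E X π a b c a') (hb' : b' ∈ E) (eb : π b' = π b) :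
    Quad E X π b a c b' := by
  refine ⟨q.frame, q.hb, q.ha, q.hc, hb', q.hab.symm, q.hcb.symm, q.hac.symm, ?_, ?_, q.card, eb⟩
  · rw [q.frame.w1.braid _ ⟨b, q.hb, rfl⟩ _ ⟨a, q.ha, rfl⟩]
    exact q.haba
  · rw [Set.insert_comm]; exact q.top

theorem Quad.rot {a b c a' c' : H} (q : Quad E X π a b c a') (hc' : c' ∈ E) (ec : π c' = π c) :
    Quad E X π c b a c' := by
  refine ⟨q.frame, q.hc, q.hb, q.ha, hc', q.hcb, q.hac.symm, q.hab, fun e => q.haba ?_, ?_, q.card, ec⟩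
  · have hA : π a ∈ π '' E := ⟨a, q.ha, rfl⟩
    have hB : π b ∈ π '' E := ⟨b, q.hb, rfl⟩
    have hC : π c ∈ π '' E := ⟨c, q.hc, rfl⟩
    rw [q.frame.w1.braid _ hA _ hB, e, q.frame.w1.braid _ hC _ hB]
    simp [mul_assoc, cancel₂ (q.frame.w1.sq _ hB), q.frame.w1.sq _ hB]
  · rw [show ({π c, π b, π a} : Set X) = {π a, π b, π c} by ext y; simp; tauto]
    exact q.top

end Roles

variable {G : Type u} [Group G] [Finite G] {D : Set G}

namespace SolLinks

variable (h : SolLinks D)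
include h

theorem quad_move {x : G} (hx : x ∈ D) {X : Type u} [Group X] {π : ↥(closure (link D x)) →* X}
    {a b c a' : ↥(closure (link D x))} (q : Quad (linkE D x) X π a b c a') {z : G} (hz : z ∈ nn D x)
    (ha : Commute (a : G) z) (hb : Commute (b : G) z) (hc : Commute (c : G) z) :
    ∃ z' ∈ nn D x, Commute (a' : G) z' ∧ Commute (b : G) z' ∧ Commute (c : G) z' := by
  have hS := h.solLink x hx
  obtain ⟨g, hg⟩ : ∃ g, g = act (four5 a b c a') stabFive := ⟨_, rfl⟩
  have key : ∀ (k j : ℕ), ToFive k stabFive j → (g : G) * Subtype.val (four5 a b c a' k) * (g : G)⁻¹ = Subtype.val (four5 a b c a' j) := by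
    intro k j ht
    rw [hg]
    exact congrArg Subtype.val (q.to_letter hS (h.perp_block hx) ht)
  have hb' : (g : G) * b * (g : G)⁻¹ = b := by simpa [four5] using key 1 1 stab_five.1
  have hc' : (g : G) * c * (g : G)⁻¹ = c := by simpa [four5] using key 2 2 stab_five.2.1
  have ha' : (g : G) * a * (g : G)⁻¹ = a' := by simpa [four5] using key 0 3 stab_five.2.2
  have hgx : (g : G) * x * (g : G)⁻¹ = x := by
    have hle : closure (link D x) ≤ centralizer ({x} : Set G) := (closure_le _).2 fun u hu =>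
      mem_centralizer_singleton_iff.2 hu.2.2.symm.eq
    rw [mem_centralizer_singleton_iff.1 (hle g.2), mul_inv_cancel_right]
  refine ⟨g * z * (g : G)⁻¹, ⟨h.fis.tt.conj _ z hz.1, fun hcm => hz.2 ((Commute.conj_iff (g : G)).1 ?_)⟩,
    ?_, ?_, ?_⟩
  · rwa [hgx]
  · rw [← ha']; exact (Commute.conj_iff _).2 ha
  · rw [← hb']; exact (Commute.conj_iff _).2 hb
  · rw [← hc']; exact (Commute.conj_iff _).2 hc

/-- Every triple from three blocks spanning the plane lies in a common neighbourhood. -/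
theorem exists_nn_of_triple {x : G} (hx : x ∈ D) {X : Type u} [Group X] {π : ↥(closure (link D x)) →* X}
    {a₀ b₀ c₀ : ↥(closure (link D x))} (q : Quad (linkE D x) X π a₀ b₀ c₀ a₀) {z₀ : G} (hz₀ : z₀ ∈ nn D x)
    {a b c : ↥(closure (link D x))} (ha : a ∈ linkE D x) (hb : b ∈ linkE D x) (hc : c ∈ linkE D x)
    (ea : π a = π a₀) (eb : π b = π b₀) (ec : π c = π c₀) :
    ∃ z ∈ nn D x, Commute (a : G) z ∧ Commute (b : G) z ∧ Commute (c : G) z := by
  have get : ∀ d : ↥(closure (link D x)), d ∈ linkE D x → ∃ d₁ ∈ linkE D x, π d₁ = π d ∧ Commute (d₁ : G) z₀ := by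
    intro d hd
    obtain ⟨d₁, hd₁, hdd⟩ := h.exists_common hx hz₀ (show (d : G) ∈ link D x from hd)
    exact ⟨toH hd₁.1, hd₁.1, ((q.frame.block d hd _ hd₁.1).2 hdd).symm, hd₁.2⟩
  obtain ⟨a₁, ha₁, ea₁, za⟩ := get a₀ q.ha
  obtain ⟨b₁, hb₁, eb₁, zb⟩ := get b₀ q.hb
  obtain ⟨c₁, hc₁, ec₁, zc⟩ := get c₀ q.hc
  have q1 := q.change ha₁ hb₁ hc₁ ha ea₁ eb₁ ec₁ ea
  obtain ⟨z₁, hz₁, za', zb', zc'⟩ := h.quad_move hx q1 hz₀ za zb zc
  have q2 := (q.change ha hb₁ hc₁ ha ea eb₁ ec₁ ea).swap hb (eb.trans eb₁.symm)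
  obtain ⟨z₂, hz₂, zb2, za2, zc2⟩ := h.quad_move hx q2 hz₁ zb' za' zc'
  have q3 := (q.change ha hb hc₁ ha ea eb ec₁ ea).rot hc (ec.trans ec₁.symm)
  obtain ⟨z₃, hz₃, zc3, zb3, za3⟩ := h.quad_move hx q3 hz₂ zc2 zb2 za2
  exact ⟨z₃, hz₃, za3, zb3, zc3⟩

theorem le_four {x : G} (hx : x ∈ D) {X : Type u} [Group X] {π : ↥(closure (link D x)) →* X}
    {a₀ b₀ c₀ : ↥(closure (link D x))} (q : Quad (linkE D x) X π a₀ b₀ c₀ a₀) {s : ℕ} (hs : 1 ≤ s)
    (hline : ∀ u v, Adj D u v → (line D u v).ncard = s + 1) (hnn : (nn D x).ncard = 8 * s ^ 2) : s ≤ 4 := by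
  classical
  obtain ⟨z₀, hz₀⟩ : (nn D x).Nonempty := by
    rw [← Set.ncard_pos (Set.toFinite _), hnn]; positivity
  have hblk : ∀ d, d ∈ linkE D x → Nat.card (blockSet (linkE D x) d) = s := by
    intro d hd
    have hxd : Adj D x d := ⟨hx, hd.1, hd.2.1.symm, hd.2.2⟩
    have := h.line_ncard_block hxd
    rw [hline _ _ hxd] at this
    rw [Nat.card_coe_set_eq]
    exact (Nat.add_right_cancel this).symm
  let P := blockSet (linkE D x) a₀ × blockSet (linkE D x) b₀ × blockSet (linkE D x) c₀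
  have hex : ∀ p : P, ∃ z ∈ nn D x, Commute ((p.1.1 : _) : G) z ∧ Commute ((p.2.1.1 : _) : G) z ∧
      Commute ((p.2.2.1 : _) : G) z := fun p =>
    h.exists_nn_of_triple hx q hz₀ p.1.2.1 p.2.1.2.1 p.2.2.2.1
      ((q.frame.block _ q.ha _ p.1.2.1).2 p.1.2.2).symm ((q.frame.block _ q.hb _ p.2.1.2.1).2 p.2.1.2.2).symm
      ((q.frame.block _ q.hc _ p.2.2.2.1).2 p.2.2.2.2).symm
  choose f hf hfa hfb hfc using hex
  have hmem : ∀ y ∈ nn D x, x * y * x ∈ nn D x := by
    intro y hy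
    refine ⟨h.fis.tt.cj_mem hx hy.1, fun hc => hy.2 ((h.fis.tt.commute_cj_iff hx (Commute.refl x)).1 hc)⟩
  let φ : P × Bool → nn D x := fun p =>
    if p.2 then ⟨x * f p.1 * x, hmem _ (hf p.1)⟩ else ⟨f p.1, hf p.1⟩
  have hφ : Function.Injective φ := by
    rintro ⟨p, i⟩ ⟨p', j⟩ e
    have hcom : ∀ (w : G), w ∈ link D x → ∀ y, Commute w y → Commute w (x * y * x) := fun w hw y hy =>
      (hw.2.2.symm.mul_right hy).mul_right hw.2.2.symm
    have c1 : ∀ (p : P) (i : Bool), Commute ((p.1.1 : _) : G) (φ (p, i)).1 ∧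
        Commute ((p.2.1.1 : _) : G) (φ (p, i)).1 ∧ Commute ((p.2.2.1 : _) : G) (φ (p, i)).1 := by
      intro p i
      cases i
      · exact ⟨hfa p, hfb p, hfc p⟩
      · exact ⟨hcom _ p.1.2.1 _ (hfa p), hcom _ p.2.1.2.1 _ (hfb p), hcom _ p.2.2.2.1 _ (hfc p)⟩
    have eq_of : ∀ (d : ↥(closure (link D x))) (u v : blockSet (linkE D x) d), d ∈ linkE D x →
        ∀ y ∈ nn D x, Commute ((u : _) : G) y → Commute ((v : _) : G) y → u = v := by
      intro d u v hd y hy hu hv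
      refine Subtype.ext (Subtype.ext (h.common_inj hx hy (a := (u : G)) (b := (v : G)) ⟨u.2.1, hu⟩ ⟨v.2.1, hv⟩ ?_))
      have hS := h.solLink x hx
      exact congrArg Subtype.val (hS.block_commute u.2.1 v.2.1
        (hS.block_trans hd (hS.block_symm hd u.2.1 u.2.2) v.2.2)).eq
    obtain ⟨a1, b1, c1'⟩ := c1 p i
    obtain ⟨a2, b2, c2⟩ := c1 p' j
    rw [← e] at a2 b2 c2
    obtain rfl : p = p' := Prod.ext (eq_of a₀ _ _ q.ha _ (φ (p, i)).2 a1 a2)
      (Prod.ext (eq_of b₀ _ _ q.hb _ (φ (p, i)).2 b1 b2) (eq_of c₀ _ _ q.hc _ (φ (p, i)).2 c1' c2))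
    have hne : x * f p * x ≠ f p := by
      intro e'
      refine (hf p).2 ?_
      show x * f p = f p * x
      nth_rewrite 2 [← e']
      rw [mul_assoc (x * f p) x x, h.fis.tt.sq x hx, mul_one]
    cases i <;> cases j
    · rfl
    · exact absurd (congrArg Subtype.val e).symm hne
    · exact absurd (congrArg Subtype.val e) hne
    · rfl
  have := Nat.card_le_card_of_injective φ hφ
  simp only [P, Nat.card_prod, Nat.card_eq_fintype_card (α := Bool), Fintype.card_bool,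
    hblk a₀ q.ha, hblk b₀ q.hb, hblk c₀ q.hc, Nat.card_coe_set_eq (nn D x), hnn] at this
  nlinarith [Nat.one_le_pow 2 s hs]

/-- The case of nine lines through a point. -/
theorem exists_rel_five {x : G} (hx : x ∈ D) {X : Type u} [Group X] {π : ↥(closure (link D x)) →* X}
    {a₀ b₀ c₀ : ↥(closure (link D x))} (q : Quad (linkE D x) X π a₀ b₀ c₀ a₀)
    (hline : ∀ u v, Adj D u v → (line D u v).ncard = 5) {z : G} (hz : z ∈ nn D x) :
    ∃ e : ℕ → G, RelFive e ∧ closure (e '' {g | g < 5}) = ⊤ := by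
  have hS := h.solLink x hx
  have hpb := h.perp_block hx
  have hD := h.fis.tt
  have get : ∀ d, d ∈ linkE D x → ∃ d₁ ∈ linkE D x, π d₁ = π d ∧ Commute (d₁ : G) z := by
    intro d hd
    obtain ⟨d₁, hd₁, hdd⟩ := h.exists_common hx hz (show (d : G) ∈ link D x from hd)
    exact ⟨toH hd₁.1, hd₁.1, ((q.frame.block d hd _ hd₁.1).2 hdd).symm, hd₁.2⟩
  obtain ⟨a, ha, ea, za⟩ := get a₀ q.ha
  obtain ⟨b, hb, eb, zb⟩ := get b₀ q.hb
  obtain ⟨c, hc, ec, zc⟩ := get c₀ q.hc
  have hxa : Adj D x a := ⟨hx, ha.1, ha.2.1.symm, ha.2.2⟩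
  have hcardB : (blockSet (linkE D x) a).ncard = 4 := by
    have := h.line_ncard_block hxa
    rw [hline _ _ hxa] at this
    change 4 + 1 = _ at this
    exact (Nat.add_right_cancel this).symm
  obtain ⟨a', ha'B, ha'ne⟩ : ∃ a' ∈ blockSet (linkE D x) a, a' ≠ a :=
    Set.exists_ne_of_one_lt_ncard (by rw [hcardB]; norm_num) a
  have ea' : π a' = π a := ((q.frame.block a ha a' ha'B.1).2 ha'B.2).symm
  have Q : Quad (linkE D x) X π a b c a' := q.change ha hb hc ha'B.1 ea eb ec (ea'.trans ea)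
  obtain ⟨eH, heH⟩ : ∃ eH, eH = four5 a b c a' := ⟨_, rfl⟩
  have hEmem : ∀ g, eH g ∈ linkE D x := heH ▸ Q.letter_mem
  have hsqH : ∀ g, eH g * eH g = 1 := fun g => hS.tt.sq _ (hEmem g)
  -- the four twins
  obtain ⟨W, hW⟩ : ∃ W : ℕ → ↥(closure (link D x)), W = fun i =>
      act eH (twFive.getD i (0, [])).2 * eH (twFive.getD i (0, [])).1 * (act eH (twFive.getD i (0, [])).2)⁻¹ :=
    ⟨_, rfl⟩
  have hWB : ∀ i < 4, W i ∈ blockSet (linkE D x) a := by
    intro i hi
    have hmem : W i ∈ linkE D x := hW ▸ hS.tt.conj _ _ (hEmem _)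
    refine ⟨hmem, (Q.frame.block a ha _ hmem).1 ?_⟩
    have hlt : i < twFive.length := hi
    have hbk := (tw_five_blk (twFive.getD i (0, [])) (by
      rw [List.getD_eq_getElem _ _ hlt]; exact List.getElem_mem hlt)).1
    have hA : π a ∈ π '' linkE D x := ⟨a, ha, rfl⟩
    have hB : π b ∈ π '' linkE D x := ⟨b, hb, rfl⟩
    have hC : π c ∈ π '' linkE D x := ⟨c, hc, rfl⟩
    rw [hW]
    dsimp only
    rw [(map_conj Q.frame.w1 hA hB hC π (fun g => by unfold pg5; split_ifs <;> omega)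
      (heH ▸ Q.pi_letter) _ _).2, hbk, pl_zero]
  have hWne : ∀ i < 4, ∀ j < 4, i < j → W i ≠ W j := by
    intro i hi j hj hij e
    obtain ⟨r, hr, h1, h2, hr2⟩ := sep_five_all i (List.mem_range.2 hi) j (List.mem_range.2 hj) hij
    obtain ⟨t1, t2⟩ := sep_five_ok r hr
    have l1 := Q.to_letter hS hpb t1
    have l2 := Q.to_letter hS hpb t2
    rw [h1] at l1
    rw [h2] at l2
    have conj_conj : ∀ k, act eH ((twFive.getD k (0, [])).2 ++ r.2.2.1) * eH (twFive.getD k (0, [])).1 *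
        (act eH ((twFive.getD k (0, [])).2 ++ r.2.2.1))⁻¹ = act eH r.2.2.1 * W k * (act eH r.2.2.1)⁻¹ := by
      intro k
      rw [act_append, hW]; group
    rw [← heH, conj_conj] at l1 l2
    rw [e, l2] at l1
    simp only [List.mem_cons, List.not_mem_nil, or_false, Prod.mk.injEq] at hr2
    rcases hr2 with ⟨e1, e2⟩ | ⟨e1, e2⟩ <;> rw [e1, e2, heH] at l1 <;> simp [four5] at l1
    exacts [ha'ne l1, ha'ne l1.symm]
  have hW0 : W 0 = a := by rw [hW, heH]; simp [twFive, four5]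
  have hblockW : ∀ w ∈ blockSet (linkE D x) a, ∃ i < 4, W i = w := by
    intro w hw
    have hsub : W '' {i | i < 4} ⊆ blockSet (linkE D x) a := by rintro _ ⟨i, hi, rfl⟩; exact hWB i hi
    have hinj : Set.InjOn W {i | i < 4} := by
      intro i hi j hj e
      rcases lt_trichotomy i j with hlt | heq | hlt
      exacts [absurd e (hWne i hi j hj hlt), heq, absurd e.symm (hWne j hj i hi hlt)]
    have heq := Set.eq_of_subset_of_ncard_le hsub (by
      rw [hcardB, Set.ncard_image_of_injOn hinj, show {i : ℕ | i < 4} = (↑(Finset.range 4) : Set ℕ) by ext; simp,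
        Set.ncard_coe_finset, Finset.card_range]) (Set.toFinite _)
    rw [← heq] at hw
    obtain ⟨i, hi, rfl⟩ := hw
    exact ⟨i, hi, rfl⟩
  have hLeq : line D x a = {x, (W 0 : G), (W 1 : G), (W 2 : G), (W 3 : G)} := by
    rw [h.line_eq hxa]
    congr 1
    ext y
    constructor
    · rintro ⟨w, hw, rfl⟩
      obtain ⟨i, hi, rfl⟩ := hblockW w hw
      interval_cases i <;> simp
    · rintro (rfl | rfl | rfl | rfl)
      exacts [⟨_, hWB 0 (by norm_num), rfl⟩, ⟨_, hWB 1 (by norm_num), rfl⟩, ⟨_, hWB 2 (by norm_num), rfl⟩,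
        ⟨_, hWB 3 (by norm_num), rfl⟩]
  have hxW : ∀ i < 4, x ≠ (W i : G) := fun i hi e => (hWB i hi).1.2.1 e.symm
  have hWne' : ∀ i < 4, ∀ j < 4, i < j → (W i : G) ≠ W j := fun i hi j hj hij e =>
    hWne i hi j hj hij (Subtype.ext e)
  have hprod : x * (W 0 : G) * (W 1 : G) * (W 2 : G) * (W 3 : G) = 1 := by
    refine h.line_prod hline (a := (W 0 : G)) (hW0.symm ▸ hxa) (hW0.symm ▸ hLeq) ?_
    simp only [List.nodup_cons, List.mem_cons, List.not_mem_nil, or_false, not_or, List.nodup_nil, and_true,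
      not_false_eq_true]
    exact ⟨⟨hxW 0 (by norm_num), hxW 1 (by norm_num), hxW 2 (by norm_num), hxW 3 (by norm_num)⟩,
      ⟨hWne' 0 (by norm_num) 1 (by norm_num) (by norm_num), hWne' 0 (by norm_num) 2 (by norm_num) (by norm_num),
        hWne' 0 (by norm_num) 3 (by norm_num) (by norm_num)⟩,
      ⟨hWne' 1 (by norm_num) 2 (by norm_num) (by norm_num), hWne' 1 (by norm_num) 3 (by norm_num) (by norm_num)⟩,
      hWne' 2 (by norm_num) 3 (by norm_num) (by norm_num)⟩
  obtain ⟨e, he⟩ : ∃ e : ℕ → G, e = fun g => if g = 4 then z else (eH g : G) := ⟨_, rfl⟩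
  have he4 : ∀ g, g < 4 → e g = (eH g : G) := fun g hg => by rw [he]; simp [show g ≠ 4 by omega]
  have hez : e 4 = z := by rw [he]; simp
  have hsq : ∀ g, e g * e g = 1 := fun g => by
    rw [he]; dsimp only
    split_ifs
    exacts [hD.sq z hz.1, congrArg Subtype.val (hsqH g)]
  have hrel : ∀ t ∈ relFiveMid ++ relFiveTop, act e (hWord t) = 1 := by
    intro t ht
    obtain ⟨ok, lt⟩ := ok_five t (List.mem_append.2 (Or.inl ht))
    exact act_hWord_eq_one (eG := e) he4 lt (heH ▸ Q.rel hS hpb ok)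
  have hxval : act e xFive = x := by
    have hcw : xFive = cword 0 [] ++ cword 3 [] ++ cword 0 [1, 2, 3, 1, 2] ++ cword 0 [2, 1, 3, 2, 1] := by
      decide
    rw [CfsgLib.Presentations.SUPres.act_congr e (fun g => (eH g : G)) xFive (fun g hg => he4 g (by
        have : ∀ g ∈ xFive, g < 4 := by decide
        exact this g hg)),
      show (fun g => (eH g : G)) = (closure (link D x)).subtype ∘ eH from rfl,
      ← CfsgLib.Presentations.SUPres.map_act, hcw, act_append, act_append, act_append, act_cword hsqH,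
      act_cword hsqH, act_cword hsqH, act_cword hsqH]
    have h3 : act eH [2, 1, 3, 2, 1] * eH 0 * (act eH [2, 1, 3, 2, 1])⁻¹ *
        (act eH [1, 2, 3, 1, 2] * eH 0 * (act eH [1, 2, 3, 1, 2])⁻¹ *
          (act eH [] * eH 3 * (act eH [])⁻¹ * (act eH [] * eH 0 * (act eH [])⁻¹))) = W 3 * (W 2 * (W 1 * W 0)) := by
      rw [hW]; rfl
    rw [h3]
    simp only [Subgroup.coe_subtype, Subgroup.coe_mul]
    have hw : ∀ i < 4, (W i : G)⁻¹ = W i := fun i hi => hD.inv_eq (hWB i hi).1.1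
    have := eq_inv_of_mul_eq_one_left (b := (W 0 : G) * W 1 * W 2 * W 3) (by simpa only [mul_assoc] using hprod)
    refine Eq.trans ?_ this.symm
    simp only [mul_inv_rev, hw 0 (by norm_num), hw 1 (by norm_num), hw 2 (by norm_num), hw 3 (by norm_num)]
  have hzx : ¬ Commute z x := fun hc => hz.2 hc.symm
  have hza' : ¬ Commute z (a' : G) := h.twin_braid hxa hz za.symm (by
    rw [h.line_eq hxa]; exact Or.inr ⟨a', ha'B, rfl⟩) (fun e => ha'ne (Subtype.ext e))
  have ev : e 0 = (a : G) ∧ e 1 = (b : G) ∧ e 2 = (c : G) ∧ e 3 = (a' : G) := by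
    simp only [he4 0 (by norm_num), he4 1 (by norm_num), he4 2 (by norm_num), he4 3 (by norm_num), heH]
    simp [four5]
  have aff := Q.affine hS hpb
  refine ⟨e, ⟨hsq, ?_, fun w hw => ?_, fun w hw => ?_⟩, ?_⟩
  · rw [ev.1, ev.2.1, ev.2.2.1]
    exact ⟨congrArg Subtype.val aff.sd, congrArg Subtype.val aff.se, congrArg Subtype.val aff.sf,
      congrArg Subtype.val aff.de, congrArg Subtype.val aff.df, congrArg Subtype.val aff.ef,
      congrArg Subtype.val aff.cross⟩
  · obtain ⟨t, ht, rfl⟩ := List.mem_map.1 hw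
    exact hrel t (List.mem_append.2 (Or.inl ht))
  · rcases List.mem_append.1 hw with hw | hw
    · obtain ⟨t, ht, rfl⟩ := List.mem_map.1 hw
      exact hrel t (List.mem_append.2 (Or.inr ht))
    · have hcomm : ∀ u : G, u * u = 1 → Commute u z → (u * z) ^ 2 = 1 := fun u hu hc => by
        rw [hc.mul_pow, pow_two, pow_two, hu, hD.sq z hz.1, one_mul]
      simp only [zFive, List.mem_cons, List.not_mem_nil, or_false] at hw
      rcases hw with rfl | rfl | rfl | rfl | rfl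
      · rw [act_pair, hez, ev.1]; exact hcomm _ (hD.sq _ ha.1) za
      · rw [act_pair, hez, ev.2.1]; exact hcomm _ (hD.sq _ hb.1) zb
      · rw [act_pair, hez, ev.2.2.1]; exact hcomm _ (hD.sq _ hc.1) zc
      · rw [act_pair, hez, ev.2.2.2]
        exact pow_three_eq_one (hD.sq _ ha'B.1.1) (hD.sq z hz.1) (hD.braid ha'B.1.1 hz.1 fun e => hza' e.symm)
      · rw [act_pw, act_cons, hxval, hez]
        exact pow_three_eq_one (hD.sq x hx) (hD.sq z hz.1) (hD.braid hx hz.1 fun e => hzx e.symm)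
  · obtain ⟨K, hK⟩ : ∃ K, K = closure (e '' {g | g < 5}) := ⟨_, rfl⟩
    rw [← hK]
    have hmem : ∀ g, g < 5 → e g ∈ K := fun g hg => hK ▸ subset_closure ⟨g, hg, rfl⟩
    have hxK : x ∈ K := hxval ▸ CfsgLib.Presentations.SUPres.act_mem e K xFive fun g hg => hmem g (by
      have : ∀ g ∈ xFive, g < 5 := by decide
      exact this g hg)
    have link3 : ∀ g < 4, ∃ k ∈ K, k * x * k⁻¹ = e g := by
      have cb : ∀ u v : G, u ∈ D → v ∈ D → ¬ Commute u v → (u * v) * u * (u * v)⁻¹ = v := fun u v hu hv hnc =>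
        conj_of_braid (hD.sq u hu) (hD.sq v hv) (hD.braid hu hv hnc)
      have step : ∀ u v : G, u ∈ D → v ∈ D → ¬ Commute u v → u ∈ K → v ∈ K →
          (∃ k ∈ K, k * x * k⁻¹ = u) → ∃ k ∈ K, k * x * k⁻¹ = v := by
        rintro u v hu hv hnc huK hvK ⟨k, hk, hku⟩
        refine ⟨u * v * k, mul_mem (mul_mem huK hvK) hk, ?_⟩
        rw [show u * v * k * x * (u * v * k)⁻¹ = (u * v) * (k * x * k⁻¹) * (u * v)⁻¹ by group, hku]
        exact cb u v hu hv hnc
      have hnc : ∀ (u v : ↥(closure (link D x))), u ∈ linkE D x → v ∈ linkE D x → π u ≠ π v →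
          ¬ Commute (u : G) v := fun u v hu hv hne hc =>
        hne ((Q.frame.block u hu v hv).2 (hpb u hu v hv (Subtype.ext hc.eq)))
      have kz := step x z hx hz.1 (fun e => hzx e.symm) hxK (hez ▸ hmem 4 (by norm_num)) ⟨1, one_mem K, by simp⟩
      have ka' := step z a' hz.1 ha'B.1.1 hza' (hez ▸ hmem 4 (by norm_num)) (ev.2.2.2 ▸ hmem 3 (by norm_num)) kz
      have kb := step a' b ha'B.1.1 hb.1 (hnc _ _ ha'B.1 hb (ea'.trans_ne Q.hab))
        (ev.2.2.2 ▸ hmem 3 (by norm_num)) (ev.2.1 ▸ hmem 1 (by norm_num)) ka'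
      have ka := step b a hb.1 ha.1 (hnc _ _ hb ha Q.hab.symm) (ev.2.1 ▸ hmem 1 (by norm_num))
        (ev.1 ▸ hmem 0 (by norm_num)) kb
      have kc := step a' c ha'B.1.1 hc.1 (hnc _ _ ha'B.1 hc (ea'.trans_ne Q.hac))
        (ev.2.2.2 ▸ hmem 3 (by norm_num)) (ev.2.2.1 ▸ hmem 2 (by norm_num)) ka'
      intro g hg
      interval_cases g
      exacts [ev.1 ▸ ka, ev.2.1 ▸ kb, ev.2.2.1 ▸ kc, ev.2.2.2 ▸ ka']
    refine h.gen_top hx hxK (h.link_cover hx Q.frame (A := π a) (B := π b) (C := π c) (e := eH)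
      (I := {i | i < 9}) (T := {g | g < 3}) (hEmem 0) (by rw [heH]; simp [four5]) (fun g hg => ?_)
      (frame_image_triple hS Q.frame.w1 Q.frame.surj ha hb hc Q.top) ?_ (fun g hg => ?_) ?_)
    · rw [heH, Q.pi_letter, pg5, if_pos (show g < 3 from hg)]
    · intro i hi g hg
      have : ∀ i ∈ List.range 9, ∀ g ∈ dataPlane.rep i, g < 3 := by decide +kernel
      exact this i (List.mem_range.2 hi) g hg
    · rw [← he4 g (Nat.lt_succ_of_lt hg)]
      exact hmem g (Nat.lt_succ_of_lt (Nat.lt_succ_of_lt hg))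
    · intro w hw
      rw [show eH 0 = a by rw [heH]; simp [four5]] at hw
      obtain ⟨i, hi, rfl⟩ := hblockW w hw
      have hlt : i < twFive.length := hi
      obtain ⟨-, hk4, hv4⟩ := tw_five_blk (twFive.getD i (0, [])) (by
        rw [List.getD_eq_getElem _ _ hlt]; exact List.getElem_mem hlt)
      obtain ⟨k, hk, hkx⟩ := link3 _ hk4
      have hgK : Subtype.val (act eH (twFive.getD i (0, [])).2) ∈ K := by
        rw [← Subgroup.coe_subtype, CfsgLib.Presentations.SUPres.map_act]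
        exact CfsgLib.Presentations.SUPres.act_mem _ K _ fun g hg => by
          show (eH g : G) ∈ K
          rw [← he4 g (hv4 g hg)]
          exact hmem g (Nat.lt_succ_of_lt (hv4 g hg))
      refine ⟨Subtype.val (act eH (twFive.getD i (0, [])).2) * k, mul_mem hgK hk, ?_⟩
      rw [hW]
      simp only [Subgroup.coe_mul, Subgroup.coe_inv]
      rw [← he4 _ hk4, ← hkx]
      group

end SolLinks

end CfsgLib.ThreeTransp.SolLink
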