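import Cfsg.Agent.Lib.ThreeTransp.Core

/-!
# Commuting transpositions acting on an elementary abelian 2-group

`Γ` is generated by 3-transpositions `D` and acts faithfully on `V` of exponent 2, `P` is a normal 3-subgroup
centralised by no member of `D`, and for commuting `d ≠ e` in `D` the second fixes `[V, d]`. Then a pairwise
commuting set `F` with a further member braiding all of it satisfies `2 ^ |F| ≤ |[V, f]| ^ 2`.
-/

set_option autoImplicit false
set_option linter.unusedSectionVars false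
set_option linter.unusedSimpArgs false
set_option linter.style.haveILetI false

namespace CfsgLib.ThreeTransp.SolLink

open Subgroup

variable {Γ : Type*} [Group Γ] [Finite Γ] {V : Type*} [AddCommGroup V] [Finite V]

/-- The setting of the bound. -/
structure ActTT (ρ : Γ →* AddMonoid.End V) (D : Set Γ) (P : Subgroup Γ) : Prop where
  tt : IsTT D
  two : ∀ v : V, v + v = 0
  inj : Function.Injective ρ
  three : IsPGroup 3 P
  norm : P.Normal
  nc : ∀ d ∈ D, ∃ p ∈ P, ¬ Commute p d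
  fix : ∀ d ∈ D, ∀ e ∈ D, d ≠ e → Commute d e → ∀ v, ρ e (ρ d v + v) = ρ d v + v

variable {ρ : Γ →* AddMonoid.End V} {D : Set Γ} {P : Subgroup Γ}

/-- `[P, d]`, as generated by the products of `d` with its `P`-conjugates. -/
def trSub (P : Subgroup Γ) (d : Γ) : Subgroup Γ :=
  closure {g | ∃ p ∈ P, g = p * d * p⁻¹ * d}

open Classical in
/-- The sum of the elements of `[P, d]`. -/
noncomputable def avg (ρ : Γ →* AddMonoid.End V) (P : Subgroup Γ) (d : Γ) : V →+ V where
  toFun v := ∑ᶠ g : trSub P d, ρ (g : Γ) v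
  map_zero' := by simp
  map_add' u v := by
    haveI := Fintype.ofFinite (trSub P d)
    simp [finsum_eq_sum_of_fintype, Finset.sum_add_distrib]

/-- The projection to the part moved by `[P, d]`. -/
noncomputable def proj (ρ : Γ →* AddMonoid.End V) (P : Subgroup Γ) (d : Γ) : V →+ V :=
  AddMonoidHom.id V + avg ρ P d

theorem act_mul (a b : Γ) (v : V) : ρ (a * b) v = ρ a (ρ b v) := by rw [map_mul]; rfl

theorem act_one (v : V) : ρ 1 v = v := by rw [map_one]; rfl

theorem proj_apply (d : Γ) (v : V) : proj ρ P d v = v + avg ρ P d v := rfl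

theorem nsmul_odd (two : ∀ v : V, v + v = 0) {n : ℕ} (hn : Odd n) (v : V) : n • v = v := by
  obtain ⟨k, rfl⟩ := hn
  rw [add_nsmul, mul_nsmul', one_nsmul, two_nsmul, two, zero_add]

theorem eq_of_add_eq_zero (two : ∀ v : V, v + v = 0) {a b : V} (hab : a + b = 0) : b = a :=
  calc b = a + a + b := by rw [two, zero_add]
    _ = a := by rw [add_assoc, hab, add_zero]

theorem conj_mem_trSub [hPn : P.Normal] (γ : Γ) {d x : Γ} (hx : x ∈ trSub P d) :
    γ * x * γ⁻¹ ∈ trSub P (γ * d * γ⁻¹) := by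
  induction hx using closure_induction with
  | mem x hx =>
    obtain ⟨p, hp, rfl⟩ := hx
    exact subset_closure ⟨γ * p * γ⁻¹, hPn.conj_mem _ hp γ, by group⟩
  | one => simpa using one_mem _
  | mul x y _ _ ihx ihy => simpa [mul_assoc] using mul_mem ihx ihy
  | inv x _ ih => simpa [mul_assoc] using inv_mem ih

theorem avg_apply (d : Γ) [Fintype (trSub P d)] (v : V) :
    avg ρ P d v = ∑ g : trSub P d, ρ (g : Γ) v := by
  exact finsum_eq_sum_of_fintype fun g : trSub P d => ρ (g : Γ) v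

theorem act_avg {d g : Γ} (hg : g ∈ trSub P d) (v : V) : ρ g (avg ρ P d v) = avg ρ P d v := by
  classical
  haveI := Fintype.ofFinite (trSub P d)
  rw [avg_apply, map_sum]
  exact Fintype.sum_equiv (Equiv.mulLeft (⟨g, hg⟩ : trSub P d)) _ _ fun x => by simp [act_mul]

theorem avg_move (γ : Γ) {d d' : Γ} (h1 : ∀ x ∈ trSub P d, γ * x * γ⁻¹ ∈ trSub P d')
    (h2 : ∀ x ∈ trSub P d', γ⁻¹ * x * γ ∈ trSub P d) (v : V) :
    ρ γ (avg ρ P d v) = avg ρ P d' (ρ γ v) := by
  classical
  haveI := Fintype.ofFinite (trSub P d)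
  haveI := Fintype.ofFinite (trSub P d')
  rw [avg_apply, avg_apply, map_sum]
  refine Fintype.sum_equiv
    ⟨fun x => ⟨γ * x * γ⁻¹, h1 x x.2⟩, fun x => ⟨γ⁻¹ * x * γ, h2 x x.2⟩, fun x => Subtype.ext (by group),
      fun x => Subtype.ext (by group)⟩ _ _ fun x => ?_
  rw [← act_mul, Equiv.coe_fn_mk, ← act_mul]
  simp [mul_assoc]

theorem avg_conj [P.Normal] (γ d : Γ) (v : V) :
    ρ γ (avg ρ P d v) = avg ρ P (γ * d * γ⁻¹) (ρ γ v) :=
  avg_move γ (fun _ hx => conj_mem_trSub γ hx) (fun x hx => by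
    simpa [mul_assoc] using conj_mem_trSub (P := P) γ⁻¹ hx) v

theorem proj_conj [P.Normal] (γ d : Γ) (v : V) :
    ρ γ (proj ρ P d v) = proj ρ P (γ * d * γ⁻¹) (ρ γ v) := by
  rw [proj_apply, proj_apply, map_add, avg_conj]

theorem conj_mem_trSub_of_mem {d x r : Γ} (hd : d * d = 1) (hr : r ∈ P) (hx : x ∈ trSub P d) :
    r * x * r⁻¹ ∈ trSub P d := by
  induction hx using closure_induction with
  | mem x hx =>
    obtain ⟨q, hq, rfl⟩ := hx
    have h1 : (r * q) * d * (r * q)⁻¹ * d ∈ trSub P d := subset_closure ⟨_, mul_mem hr hq, rfl⟩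
    have h2 : r * d * r⁻¹ * d ∈ trSub P d := subset_closure ⟨_, hr, rfl⟩
    have := mul_mem h1 (inv_mem h2)
    simpa [mul_assoc, inv_eq_self hd, cancel₂ hd] using this
  | one => simpa using one_mem _
  | mul x y _ _ ihx ihy => simpa [mul_assoc] using mul_mem ihx ihy
  | inv x _ ih => simpa [mul_assoc] using inv_mem ih

namespace ActTT

variable (h : ActTT ρ D P)
include h

theorem sub_le {d : Γ} (hd : d ∈ D) : trSub P d ≤ P := by
  rw [trSub, closure_le]
  rintro _ ⟨p, hp, rfl⟩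
  have := P.mul_mem hp (h.norm.conj_mem _ (P.inv_mem hp) d)
  rw [h.tt.inv_eq hd] at this
  simpa [mul_assoc] using this

theorem odd_card {d : Γ} (hd : d ∈ D) [Fintype (trSub P d)] : Odd (Fintype.card (trSub P d)) := by
  haveI : Fact (Nat.Prime 3) := ⟨Nat.prime_three⟩
  obtain ⟨k, hk⟩ := IsPGroup.iff_card.1 (h.three.to_le (h.sub_le hd))
  rw [← Nat.card_eq_fintype_card, hk]
  exact Odd.pow (by decide)

theorem avg_fix {d : Γ} (hd : d ∈ D) {v : V} (hv : ∀ g ∈ trSub P d, ρ g v = v) : avg ρ P d v = v := by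
  classical
  haveI := Fintype.ofFinite (trSub P d)
  rw [avg_apply, Finset.sum_congr rfl (fun (g : trSub P d) _ => hv g g.2), Finset.sum_const, Finset.card_univ,
    nsmul_odd h.two (h.odd_card hd)]

theorem proj_idem {d : Γ} (hd : d ∈ D) (v : V) : proj ρ P d (proj ρ P d v) = proj ρ P d v := by
  have hA := h.avg_fix hd (v := avg ρ P d v) fun g hg => act_avg hg v
  rw [proj_apply, proj_apply, map_add, hA, h.two, add_zero]

theorem avg_comm_act {d p : Γ} (hd : d ∈ D) (hp : p ∈ P) (v : V) :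
    ρ p (avg ρ P d v) = avg ρ P d (ρ p v) :=
  avg_move p (fun _ hx => conj_mem_trSub_of_mem (h.tt.sq d hd) hp hx) (fun x hx => by
    simpa using conj_mem_trSub_of_mem (h.tt.sq d hd) (P.inv_mem hp) hx) v

theorem proj_comm_act {d p : Γ} (hd : d ∈ D) (hp : p ∈ P) (v : V) :
    ρ p (proj ρ P d v) = proj ρ P d (ρ p v) := by
  rw [proj_apply, proj_apply, map_add, h.avg_comm_act hd hp]

theorem proj_comm {d e : Γ} (hd : d ∈ D) (he : e ∈ D) (v : V) :
    proj ρ P d (proj ρ P e v) = proj ρ P e (proj ρ P d v) := by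
  classical
  haveI := Fintype.ofFinite (trSub P d)
  have : avg ρ P d (avg ρ P e v) = avg ρ P e (avg ρ P d v) := by
    rw [avg_apply (d := d), avg_apply (d := d), map_sum]
    exact Finset.sum_congr rfl fun g _ => h.avg_comm_act he (h.sub_le hd g.2) v
  simp only [proj_apply, map_add, this]
  abel

theorem commute_conj {d e p : Γ} (hd : d ∈ D) (he : e ∈ D) (hne : d ≠ e) (hc : Commute d e) (hp : p ∈ P) :
    d ≠ p * e * p⁻¹ ∧ Commute d (p * e * p⁻¹) := by
  haveI := h.norm
  have hee : e * (p * e * p⁻¹) ∈ P := by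
    have := P.mul_mem (h.norm.conj_mem _ hp e) (P.inv_mem hp)
    rw [h.tt.inv_eq he] at this
    simpa [mul_assoc] using this
  refine ⟨fun heq => hne (h.tt.eq_of_mem_pGroup_three h.three he hd (heq ▸ hee) hc.symm).symm, ?_⟩
  by_contra hnc
  have hf := h.tt.conj p e he
  have h3 := pow_three_eq_one (h.tt.sq d hd) (h.tt.sq _ hf) (h.tt.braid hd hf hnc)
  have hmk : QuotientGroup.mk' P (d * (p * e * p⁻¹)) = QuotientGroup.mk' P (d * e) := by
    have hp1 : QuotientGroup.mk' P p = 1 := (QuotientGroup.eq_one_iff _).2 hp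
    rw [map_mul, map_mul, map_mul, map_mul, map_inv, hp1, one_mul, inv_one, mul_one]
  have h3' : (QuotientGroup.mk' P (d * e)) ^ 3 = 1 := by rw [← hmk, ← map_pow, h3, map_one]
  have h2 : (QuotientGroup.mk' P (d * e)) ^ 2 = 1 := by
    rw [← map_pow, hc.mul_pow, pow_two, pow_two, h.tt.sq d hd, h.tt.sq e he, one_mul, map_one]
  have h1 : QuotientGroup.mk' P (d * e) = 1 := by
    calc QuotientGroup.mk' P (d * e) = (QuotientGroup.mk' P (d * e)) ^ 3 := by
          rw [pow_succ, h2, one_mul]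
      _ = 1 := h3'
  exact hne (h.tt.eq_of_mem_pGroup_three h.three hd he ((QuotientGroup.eq_one_iff _).1 h1) hc)

theorem proj_orth {d e : Γ} (hd : d ∈ D) (he : e ∈ D) (hne : d ≠ e) (hc : Commute d e) (v : V) :
    proj ρ P d (proj ρ P e v) = 0 := by
  classical
  suffices hs : avg ρ P d (proj ρ P e v) = proj ρ P e v by rw [proj_apply, hs, h.two]
  have hkey : ∀ p ∈ P, ρ (p * d * p⁻¹) (proj ρ P e v) = proj ρ P e v := by
    intro p hp
    have hd' := h.tt.conj p d hd
    have hgen : ∀ g ∈ trSub P e, ∀ w, ρ (p * d * p⁻¹) (ρ g w + w) = ρ g w + w := by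
      intro g hg
      induction hg using closure_induction with
      | mem g hg =>
        obtain ⟨q, hq, rfl⟩ := hg
        intro w
        obtain ⟨n1, c1⟩ := h.commute_conj he hd hne.symm hc.symm hp
        obtain ⟨n2, c2⟩ := h.commute_conj hd' he n1.symm c1.symm hq
        have h1 := h.fix _ (h.tt.conj q e he) _ hd' n2.symm c2.symm (ρ e w)
        have h2 := h.fix _ he _ hd' n1 c1 w
        have heq : ρ (q * e * q⁻¹ * e) w + w
            = (ρ (q * e * q⁻¹) (ρ e w) + ρ e w) + (ρ e w + w) := by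
          rw [act_mul _ e, add_assoc, ← add_assoc (ρ e w), h.two, zero_add]
        rw [heq, map_add, h1, h2]
      | one => intro w; simp [act_one, h.two]
      | mul a b _ _ iha ihb =>
        intro w
        have heq : ρ (a * b) w + w = (ρ a (ρ b w) + ρ b w) + (ρ b w + w) := by
          rw [act_mul, add_assoc, ← add_assoc (ρ b w), h.two, zero_add]
        rw [heq, map_add, iha, ihb]
      | inv a _ iha =>
        intro w
        have := iha (ρ a⁻¹ w)
        rwa [← act_mul a, mul_inv_cancel, act_one, add_comm w] at this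
    haveI := Fintype.ofFinite (trSub P e)
    have hpe : proj ρ P e v = ∑ g : trSub P e, (ρ (g : Γ) v + v) := by
      rw [Finset.sum_add_distrib, ← avg_apply, Finset.sum_const, Finset.card_univ,
        nsmul_odd h.two (h.odd_card he), add_comm, proj_apply]
    rw [hpe, map_sum]
    exact Finset.sum_congr rfl fun g _ => hgen g g.2 v
  refine h.avg_fix hd fun g hg => ?_
  induction hg using closure_induction with
  | mem g hg =>
    obtain ⟨q, hq, rfl⟩ := hg
    have := hkey 1 P.one_mem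
    simp only [one_mul, inv_one, mul_one] at this
    rw [act_mul, this, hkey q hq]
  | one => exact act_one _
  | mul a b _ _ iha ihb => rw [act_mul, ihb, iha]
  | inv a _ iha => conv_lhs => rw [← iha, ← act_mul, inv_mul_cancel, act_one]

theorem proj_inter {d f : Γ} (hd : d ∈ D) (hf : f ∈ D) (hb : ¬ Commute f d) :
    ∃ v, proj ρ P f (proj ρ P d v) ≠ 0 := by
  by_contra hcon
  push Not at hcon
  haveI := h.norm
  obtain ⟨p, hp, hpd⟩ := h.nc d hd
  refine hpd ?_
  set c := p * d * p⁻¹ * d with hc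
  have hcd : c ∈ trSub P d := subset_closure ⟨p, hp, rfl⟩
  have hfix : ∀ v, ρ c v = v := by
    intro v
    set w := proj ρ P d v with hw
    have hf0 : avg ρ P f w = w := eq_of_add_eq_zero h.two (a := w) (by rw [← proj_apply]; exact hcon v)
    have hg0 : avg ρ P (f * d * f) w = w := by
      refine eq_of_add_eq_zero h.two (a := w) ?_
      rw [← proj_apply]
      have hwd : w = ρ d (proj ρ P d (ρ d v)) := by
        rw [proj_conj, ← act_mul, h.tt.inv_eq hd, h.tt.sq d hd, one_mul, act_one]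
      rw [hwd, h.tt.braid hf hd hb]
      have := proj_conj (ρ := ρ) (P := P) d f (proj ρ P d (ρ d v))
      rw [hcon, map_zero, h.tt.inv_eq hd] at this
      exact this.symm
    have hr : c * (f * c * f)⁻¹ ∈ trSub P f :=
      subset_closure ⟨c, h.sub_le hd hcd, by simp [mul_assoc, h.tt.inv_eq hf]⟩
    have hc' : f * c * f ∈ trSub P (f * d * f) := by
      have := conj_mem_trSub (P := P) f hcd
      rwa [h.tt.inv_eq hf] at this
    have h1 : ρ (c * (f * c * f)⁻¹) w = w := by
      conv_lhs => rw [← hf0]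
      rw [act_avg hr, hf0]
    have h2 : ρ (f * c * f) w = w := by
      conv_lhs => rw [← hg0]
      rw [act_avg hc', hg0]
    have hcw : ρ c w = w := by
      conv_lhs => rw [show c = (c * (f * c * f)⁻¹) * (f * c * f) by group]
      rw [act_mul, h2, h1]
    have hv : v = w + avg ρ P d v := by
      rw [hw, proj_apply, add_assoc, h.two, add_zero]
    conv_lhs => rw [hv]
    rw [map_add, hcw, act_avg hcd, ← hv]
  have hc1 : c = 1 := h.inj (AddMonoidHom.ext fun v => by rw [map_one]; exact hfix v)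
  rw [hc] at hc1
  have h1 : p * d * p⁻¹ = d := by
    rw [mul_eq_one_iff_eq_inv.1 hc1, h.tt.inv_eq hd]
  exact mul_inv_eq_iff_eq_mul.1 h1

/-- A minimal `P`-invariant nonzero subgroup. -/
theorem exists_irr {d f : Γ} (hd : d ∈ D) (hf : f ∈ D) (hb : ¬ Commute f d) :
    ∃ S : AddSubgroup V, (∀ p ∈ P, ∀ s ∈ S, ρ p s ∈ S) ∧ S ≠ ⊥ ∧
      (∀ s ∈ S, proj ρ P f s = s ∧ proj ρ P d s = s) ∧
      ∀ T : AddSubgroup V, (∀ p ∈ P, ∀ s ∈ T, ρ p s ∈ T) → T ≤ S → T = ⊥ ∨ T = S := by
  classical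
  set R : AddSubgroup V := ((proj ρ P f).comp (proj ρ P d)).range with hR
  let Ok : AddSubgroup V → Prop := fun S => (∀ p ∈ P, ∀ s ∈ S, ρ p s ∈ S) ∧ S ≠ ⊥ ∧ S ≤ R
  obtain ⟨v, hv⟩ := h.proj_inter hd hf hb
  have hROk : Ok R := by
    refine ⟨?_, fun hbot => hv ?_, le_rfl⟩
    · rintro p hp _ ⟨w, rfl⟩
      exact ⟨ρ p w, by simp [h.proj_comm_act hf hp, h.proj_comm_act hd hp]⟩
    · have : proj ρ P f (proj ρ P d v) ∈ R := ⟨v, rfl⟩
      rwa [hbot, AddSubgroup.mem_bot] at this
  obtain ⟨S, hS, hmin⟩ := wellFounded_lt.has_min {S | Ok S} ⟨R, hROk⟩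
  refine ⟨S, hS.1, hS.2.1, fun s hs => ?_, fun T hT hTS => ?_⟩
  · obtain ⟨w, rfl⟩ := hS.2.2 hs
    refine ⟨h.proj_idem hf _, ?_⟩
    simp only [AddMonoidHom.comp_apply]
    rw [h.proj_comm hd hf, h.proj_idem hd]
  · by_cases hT0 : T = ⊥
    · exact Or.inl hT0
    · exact Or.inr (eq_of_le_of_not_lt hTS (hmin T ⟨hT, hT0, hTS.trans hS.2.2⟩))

theorem proj_scalar {S : AddSubgroup V} (hS : ∀ p ∈ P, ∀ s ∈ S, ρ p s ∈ S)
    (hmin : ∀ T : AddSubgroup V, (∀ p ∈ P, ∀ s ∈ T, ρ p s ∈ T) → T ≤ S → T = ⊥ ∨ T = S)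
    {d : Γ} (hd : d ∈ D) :
    (∀ s ∈ S, proj ρ P d s = 0) ∨ (∀ s ∈ S, proj ρ P d s = s) := by
  classical
  haveI := Fintype.ofFinite (trSub P d)
  have hmem : ∀ s ∈ S, proj ρ P d s ∈ S := fun s hs => by
    rw [proj_apply, avg_apply]
    exact S.add_mem hs (S.sum_mem fun g _ => hS _ (h.sub_le hd g.2) s hs)
  rcases hmin (S ⊓ (proj ρ P d).ker)
      (fun p hp s hs => ⟨hS p hp s hs.1, show proj ρ P d (ρ p s) = 0 by
        rw [← h.proj_comm_act hd hp, AddMonoidHom.mem_ker.1 hs.2, map_zero]⟩) inf_le_left with hb | hS'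
  · refine Or.inr fun s hs => ?_
    have h0 : s + proj ρ P d s ∈ S ⊓ (proj ρ P d).ker :=
      ⟨S.add_mem hs (hmem s hs), show proj ρ P d (s + proj ρ P d s) = 0 by
        rw [map_add, h.proj_idem hd, h.two]⟩
    rw [hb, AddSubgroup.mem_bot] at h0
    exact eq_of_add_eq_zero h.two h0
  · exact Or.inl fun s hs => (hS'.ge hs).2

/-- Each index has a vector of `[V, f]` seen by it and by at most one other. -/
theorem exists_vec (F : Finset Γ) (hF : ∀ d ∈ F, d ∈ D) (hcomm : ∀ d ∈ F, ∀ e ∈ F, Commute d e)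
    {f : Γ} (hf : f ∈ D) (hb : ∀ d ∈ F, ¬ Commute f d) {i : Γ} (hi : i ∈ F) :
    ∃ v, ∃ j, proj ρ P i (ρ f v + v) ≠ 0 ∧
      ∀ l ∈ F, l ≠ i → l ≠ j → proj ρ P l (ρ f v + v) = 0 := by
  classical
  haveI := h.norm
  obtain ⟨S, hS, hne, hfix, hmin⟩ := h.exists_irr (hF i hi) hf (hb i hi)
  obtain ⟨s, hs, hfs⟩ : ∃ s ∈ S, ρ f s ≠ s := by
    by_contra hcon
    push Not at hcon
    refine hne (S.eq_bot_iff_forall.2 fun s hs => ?_)
    have havg : avg ρ P f s = s := h.avg_fix hf fun g hg => by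
      induction hg using closure_induction generalizing s with
      | mem g hg =>
        obtain ⟨q, hq, rfl⟩ := hg
        rw [act_mul, hcon s hs, act_mul, act_mul, hcon _ (hS _ (P.inv_mem hq) s hs), ← act_mul,
          mul_inv_cancel, act_one]
      | one => exact act_one _
      | mul a b _ _ iha ihb => rw [act_mul, ihb s hs, iha s hs]
      | inv a _ iha => conv_lhs => rw [← iha s hs, ← act_mul, inv_mul_cancel, act_one]
    have := (hfix s hs).1
    rw [proj_apply, havg, h.two] at this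
    exact this.symm
  have hs0 : s ≠ 0 := fun h0 => hfs (by rw [h0, map_zero])
  -- what the other index sees of the conjugate
  have hmove : ∀ l ∈ F, proj ρ P l (ρ f s) = ρ f (proj ρ P (f * l * f) s) := by
    intro l _
    rw [proj_conj, h.tt.inv_eq hf]
    simp [mul_assoc, cancel₂ (h.tt.sq f hf), h.tt.sq f hf]
  have hone : ∀ l ∈ F, ∀ m ∈ F, proj ρ P l (ρ f s) ≠ 0 → proj ρ P m (ρ f s) ≠ 0 → l = m := by
    intro l hl m hm h1 h2
    by_contra hlm
    rw [hmove l hl] at h1
    rw [hmove m hm] at h2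
    have hl' : f * l * f ∈ D := h.tt.cj_mem hf (hF l hl)
    have hm' : f * m * f ∈ D := h.tt.cj_mem hf (hF m hm)
    rcases h.proj_scalar hS hmin hl' with z1 | o1
    · exact h1 (by rw [z1 s hs, map_zero])
    rcases h.proj_scalar hS hmin hm' with z2 | o2
    · exact h2 (by rw [z2 s hs, map_zero])
    have := h.proj_orth hl' hm' (fun e => hlm (mul_left_cancel (mul_right_cancel e)))
      (by
        have := (hcomm l hl m hm).map (MulAut.conj f).toMonoidHom
        simpa [h.tt.inv_eq hf] using this) s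
    rw [o2 s hs, o1 s hs] at this
    exact hs0 this
  have hsi : proj ρ P i s = s := (hfix s hs).2
  have hsl : ∀ l ∈ F, l ≠ i → proj ρ P l s = 0 := fun l hl hli => by
    rw [← hsi]; exact h.proj_orth (hF l hl) (hF i hi) hli (hcomm l hl i hi) s
  have hni : proj ρ P i (ρ f s + s) ≠ 0 := by
    rw [map_add, hsi, hmove i hi]
    rcases h.proj_scalar hS hmin (h.tt.cj_mem hf (hF i hi)) with z | o
    · rw [z s hs, map_zero, zero_add]; exact hs0
    · rw [o s hs]; exact fun e => hfs (eq_of_add_eq_zero h.two e).symm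
  by_cases hj : ∃ j ∈ F, j ≠ i ∧ proj ρ P j (ρ f s) ≠ 0
  · obtain ⟨j, hjF, -, hj'⟩ := hj
    refine ⟨s, j, hni, fun l hl hli hlj => ?_⟩
    rw [map_add, hsl l hl hli, add_zero]
    by_contra hl0
    exact hlj (hone l hl j hjF hl0 hj')
  · push Not at hj
    exact ⟨s, i, hni, fun l hl hli _ => by rw [map_add, hsl l hl hli, hj l hl hli, add_zero]⟩

/-- The bound. -/
theorem pow_le (F : Finset Γ) (hF : ∀ d ∈ F, d ∈ D) (hcomm : ∀ d ∈ F, ∀ e ∈ F, Commute d e)
    {f : Γ} (hf : f ∈ D) (hb : ∀ d ∈ F, ¬ Commute f d) :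
    2 ^ F.card ≤ (Set.range fun v => ρ f v + v).ncard ^ 2 := by
  classical
  set R : AddSubgroup V := (AddMonoidHom.mk' (fun v => ρ f v + v) (fun a b => by rw [map_add]; abel)).range with hR
  have hcard : (Set.range fun v => ρ f v + v).ncard = Nat.card R := by
    rw [← Nat.card_coe_set_eq]; rfl
  rw [hcard]
  let N : Finset Γ → AddSubgroup V := fun J => R ⊓ ⨅ l ∈ J, (proj ρ P l).ker
  have hmemN : ∀ J x, x ∈ N J ↔ x ∈ R ∧ ∀ l ∈ J, proj ρ P l x = 0 := fun J x => by simp [N, AddSubgroup.mem_iInf]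
  suffices H : ∀ J ⊆ F, 2 ^ J.card * Nat.card (N J) ^ 2 ≤ Nat.card R ^ 2 by
    have h1 := H F subset_rfl
    have h2 : 1 ≤ Nat.card (N F) ^ 2 := Nat.one_le_pow _ _ Nat.card_pos
    nlinarith
  intro J hJ
  induction hn : J.card using Nat.strong_induction_on generalizing J with
  | _ n ih =>
  subst hn
  rcases J.eq_empty_or_nonempty with rfl | ⟨i, hi⟩
  · simp [N]
  obtain ⟨v, j, hvi, hvl⟩ := h.exists_vec F hF hcomm hf hb (hJ hi)
  set J' := (J.erase i).erase j with hJ'
  have hsub : J' ⊆ J := (Finset.erase_subset _ _).trans (Finset.erase_subset _ _)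
  have hlt : J'.card < J.card :=
    lt_of_le_of_lt (Finset.card_erase_le) (Finset.card_erase_lt_of_mem hi)
  have hle : J.card ≤ J'.card + 2 := by
    have := Finset.card_erase_of_mem hi
    have := Finset.pred_card_le_card_erase (s := J.erase i) (a := j)
    rw [hJ']
    omega
  have hNle : N J ≤ N J' := fun x hx => (hmemN _ _).2 ⟨((hmemN _ _).1 hx).1, fun l hl => ((hmemN _ _).1 hx).2 l (hsub hl)⟩
  have hstrict : Nat.card (N J) ≠ Nat.card (N J') := by
    intro heq
    have hx : ρ f v + v ∈ N J' := by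
      refine (hmemN _ _).2 ⟨⟨v, rfl⟩, fun l hl => ?_⟩
      simp only [hJ', Finset.mem_erase] at hl
      exact hvl l (hJ hl.2.2) hl.2.1 hl.1
    rw [← AddSubgroup.eq_of_le_of_card_ge hNle heq.ge, hmemN] at hx
    exact hvi (hx.2 i hi)
  have h2 : 2 * Nat.card (N J) ≤ Nat.card (N J') := by
    obtain ⟨c, hc⟩ := AddSubgroup.card_dvd_of_le hNle
    have hpos : 0 < Nat.card (N J') := Nat.card_pos
    rcases c with _ | _ | c
    · omega
    · omega
    · rw [hc]; nlinarith
  calc 2 ^ J.card * Nat.card (N J) ^ 2 ≤ 2 ^ (J'.card + 2) * Nat.card (N J) ^ 2 := by gcongr; norm_num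
    _ = 2 ^ J'.card * (2 * Nat.card (N J)) ^ 2 := by ring
    _ ≤ 2 ^ J'.card * Nat.card (N J') ^ 2 := by gcongr
    _ ≤ Nat.card R ^ 2 := ih J'.card hlt J' (hsub.trans hJ) rfl

end ActTT

end CfsgLib.ThreeTransp.SolLink
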