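import Cfsg.Agent.Lib.ThreeTransp.SolLink.Bound
import Cfsg.Agent.Lib.ThreeTransp.OddCoreLink

/-!
Fischer groups with solvable links: lines form a generalised quadrangle.
-/

set_option autoImplicit false
set_option linter.unusedSectionVars false
set_option linter.style.haveILetI false

namespace CfsgLib.ThreeTransp.SolLink

open Subgroup Cfsg

variable {G : Type*} [Group G]

/-- The link as a set in the group it generates. -/
def linkE (D : Set G) (x : G) : Set ↥(closure (link D x)) := {e | (e : G) ∈ link D x}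

/-- Every link generates a solvable group with central odd core. -/
structure SolLinks (D : Set G) : Prop where
  fis : FischerHyp D
  solLink : ∀ x ∈ D, SolTT (linkE D x)

/-- The line through two commuting transpositions. -/
def line (D : Set G) (x y : G) : Set G :=
  {z | z ∈ D ∧ ∀ w ∈ D, Commute w x → Commute w y → Commute w z}

/-- Two different commuting members of `D`. -/
def Adj (D : Set G) (x y : G) : Prop := x ∈ D ∧ y ∈ D ∧ x ≠ y ∧ Commute x y

theorem Adj.symm {D : Set G} {x y : G} (h : Adj D x y) : Adj D y x := ⟨h.2.1, h.1, h.2.2.1.symm, h.2.2.2.symm⟩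

theorem Adj.mem_link {D : Set G} {x y : G} (h : Adj D x y) : y ∈ link D x := ⟨h.2.1, h.2.2.1.symm, h.2.2.2⟩

theorem line_comm (D : Set G) (x y : G) : line D x y = line D y x :=
  Set.ext fun _ => ⟨fun h => ⟨h.1, fun w hw h1 h2 => h.2 w hw h2 h1⟩, fun h => ⟨h.1, fun w hw h1 h2 => h.2 w hw h2 h1⟩⟩

theorem left_mem_line {D : Set G} {x y : G} (h : Adj D x y) : x ∈ line D x y := ⟨h.1, fun _ _ h1 _ => h1⟩

theorem right_mem_line {D : Set G} {x y : G} (h : Adj D x y) : y ∈ line D x y := ⟨h.2.1, fun _ _ _ h2 => h2⟩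

theorem line_commute_left {D : Set G} {x y z : G} (h : Adj D x y) (hz : z ∈ line D x y) : Commute x z :=
  hz.2 x h.1 (Commute.refl x) h.2.2.2

theorem line_commute {D : Set G} {x y a b : G} (h : Adj D x y) (ha : a ∈ line D x y) (hb : b ∈ line D x y) :
    Commute a b :=
  hb.2 a ha.1 (line_commute_left h ha).symm (line_commute_left h.symm (line_comm D x y ▸ ha)).symm

theorem mem_line_conj {D : Set G} (hconj : ∀ (g : G), ∀ d ∈ D, g * d * g⁻¹ ∈ D) (g : G) {x y z : G}
    (hz : z ∈ line D x y) : g * z * g⁻¹ ∈ line D (g * x * g⁻¹) (g * y * g⁻¹) := by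
  refine ⟨hconj g z hz.1, fun w hw h1 h2 => ?_⟩
  have key : ∀ v, Commute w (g * v * g⁻¹) → Commute (g⁻¹ * w * g) v := fun v hv => by
    have := hv.map (MulAut.conj g⁻¹).toMonoidHom
    simpa [mul_assoc] using this
  have := (hz.2 (g⁻¹ * w * g) (by simpa using hconj g⁻¹ w hw) (key x h1) (key y h2)).map (MulAut.conj g).toMonoidHom
  simpa [mul_assoc] using this

variable [Finite G] {D : Set G}

/-- The hypotheses of the theorem give `SolLinks`. -/
theorem SolLinks.of_hyp (h : FischerHyp D) {x₀ : G} (hx₀ : x₀ ∈ D) (hs : Group.IsSolvable ↥(closure (link D x₀)))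
    (hodd : ∀ x ∈ D, oddCore ↥(closure (link D x)) ≤ center ↥(closure (link D x))) : SolLinks D := by
  refine ⟨h, fun x hx => ?_⟩
  have hsx : Group.IsSolvable ↥(closure (link D x)) := by
    obtain ⟨g, hg⟩ := h.isClass x₀ hx₀ x hx
    have hmap : (closure (link D x₀)).map (MulAut.conj g).toMonoidHom = closure (link D x) := by
      rw [MonoidHom.map_closure]
      congr 1
      ext z
      constructor
      · rintro ⟨u, hu, rfl⟩; exact hg ▸ link_conj h.tt g hu
      · intro hz
        refine ⟨g⁻¹ * z * g, ?_, by simp [mul_assoc]⟩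
        have := link_conj h.tt g⁻¹ hz
        rw [← hg] at this
        simpa [mul_assoc] using this
    rw [← hmap]
    exact Group.isSolvable_of_surjective ((MulAut.conj g).toMonoidHom.subgroupMap_surjective _)
  have two : ∃ a ∈ link D x, ∃ b ∈ link D x, a ≠ b := by
    by_contra hle
    push Not at hle
    have hcard : ∀ y ∈ D, ∀ a ∈ link D y, ∀ b ∈ link D y, a = b := by
      intro y hy
      have h1 : (link D x).ncard ≤ 1 := (Set.ncard_le_one).2 hle
      rw [link_ncard_eq h.tt h.isClass hx hy] at h1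
      exact (Set.ncard_le_one).1 h1
    have hsub : ∀ z ∈ comp D Commute x, z = x ∨ z ∈ link D x := by
      intro z hz
      induction hz with
      | refl => exact Or.inl rfl
      | @tail b c _ hbc ih =>
        by_cases hcx : c = x
        · exact Or.inl hcx
        rcases ih with rfl | hb
        · exact Or.inr ⟨hbc.2.1, hcx, hbc.2.2⟩
        · by_cases hcb : c = b
          · exact Or.inr (hcb ▸ hb)
          · exact absurd (hcard b hb.1 c ⟨hbc.2.1, hcb, hbc.2.2⟩ x ⟨hx, hb.2.1.symm, hb.2.2.symm⟩) hcx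
    have hall : ∀ a ∈ D, ∀ b ∈ D, Commute a b := by
      have hm : ∀ a ∈ D, a = x ∨ a ∈ link D x := fun a ha => hsub a
        ((h.tt.comp_eq_comp h.gen h.perf h.isClass hx ha) ▸ mem_comp_self D Commute a)
      intro a ha b hb
      rcases hm a ha with rfl | ha'
      · rcases hm b hb with rfl | hb'
        · exact Commute.refl _
        · exact hb'.2.2
      · rcases hm b hb with rfl | hb'
        · exact ha'.2.2.symm
        · rw [hle a ha' b hb']
    have htop := h.sol ⊤ inferInstance (h.gen ▸ isSolvable_closure_of_commute hall)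
    exact h.tt.ne_one x hx (by rw [← Subgroup.mem_bot, ← htop]; trivial)
  refine { tt := ⟨?_, ?_, ?_, ?_⟩, gen := closure_closure_coe_preimage, cls := ?_, sol := hsx, two := ?_,
           odd := hodd x hx }
  · exact fun d hd => Subtype.ext (h.tt.sq _ hd.1)
  · exact fun d hd e => h.tt.ne_one _ hd.1 (congrArg Subtype.val e)
  · exact fun d hd e he => (h.tt.cond _ hd.1 _ he.1).imp
      (fun hc => Subtype.ext hc.eq) (fun hb => Subtype.ext hb)
  · intro g d hd
    have hgx : Commute (g : G) x := by
      have hle : closure (link D x) ≤ centralizer ({x} : Set G) := (closure_le _).2 fun u hu =>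
        mem_centralizer_singleton_iff.2 hu.2.2.symm.eq
      exact mem_centralizer_singleton_iff.1 (hle g.2)
    show (g : G) * d * (g : G)⁻¹ ∈ link D x
    have := link_conj h.tt (g : G) (show (d : G) ∈ link D x from hd)
    rwa [hgx.eq, mul_inv_cancel_right] at this
  · intro a ha b hb
    obtain ⟨g, hg, hgab⟩ := h.exists_conj_link hx ha hb
    exact ⟨⟨g, hg⟩, Subtype.ext hgab⟩
  · obtain ⟨a, ha, b, hb, hab⟩ := two
    exact ⟨⟨a, subset_closure ha⟩, ha, ⟨b, subset_closure hb⟩, hb, fun e => hab (congrArg Subtype.val e)⟩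

namespace SolLinks

variable (h : SolLinks D)
include h

theorem line_eq {x y : G} (hxy : Adj D x y) :
    line D x y = insert x (Subtype.val '' blockSet (linkE D x) ⟨y, subset_closure hxy.mem_link⟩) := by
  have hS := h.solLink x hxy.1
  set y' : ↥(closure (link D x)) := ⟨y, subset_closure hxy.mem_link⟩
  have hy' : y' ∈ linkE D x := hxy.mem_link
  ext z
  constructor
  · intro hz
    by_cases hzx : z = x
    · exact Or.inl hzx
    have hzl : z ∈ link D x := ⟨hz.1, hzx, line_commute_left hxy hz⟩
    refine Or.inr ⟨⟨z, subset_closure hzl⟩, ⟨hzl, hS.block_of_perp hy' hzl ?_⟩, rfl⟩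
    refine Set.eq_of_subset_of_ncard_le ?_ ?_ (Set.toFinite _)
    · rintro w ⟨hw, hwy⟩
      exact ⟨hw, Subtype.ext ((hz.2 w hw.1 hw.2.2.symm (congrArg Subtype.val hwy.symm.eq)).symm.eq)⟩
    · obtain ⟨g, hg⟩ := hS.cls y' hy' _ (show (⟨z, subset_closure hzl⟩ : ↥(closure (link D x))) ∈ linkE D x from hzl)
      rw [← hg, ← Set.ncard_image_of_injective (perp (linkE D x) y') (MulAut.conj g).injective]
      refine Set.ncard_le_ncard ?_ (Set.toFinite _)
      intro w hw
      refine ⟨g⁻¹ * w * g, ⟨by simpa using hS.tt.conj g⁻¹ w hw.1, ?_⟩, by simp [mul_assoc]⟩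
      have := hw.2.map (MulAut.conj g⁻¹).toMonoidHom
      simpa [mul_assoc] using this
  · rintro (rfl | ⟨z', hz', rfl⟩)
    · exact left_mem_line hxy
    · refine ⟨hz'.1.1, fun w hw hwx hwy => ?_⟩
      by_cases hwe : w = x
      · subst hwe; exact hz'.1.2.2
      have hwl : w ∈ link D x := ⟨hw, hwe, hwx.symm⟩
      have := hS.block_perp hy' hz'.1 (show (⟨w, subset_closure hwl⟩ : ↥(closure (link D x))) ∈ linkE D x from hwl)
        hz'.2 (Subtype.ext hwy.eq)
      exact congrArg Subtype.val this.eq

theorem line_left {x y z : G} (hxy : Adj D x y) (hz : z ∈ line D x y) (hzx : z ≠ x) :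
    Adj D x z ∧ line D x z = line D x y := by
  have hxz : Adj D x z := ⟨hxy.1, hz.1, Ne.symm hzx, line_commute_left hxy hz⟩
  refine ⟨hxz, ?_⟩
  have hS := h.solLink x hxy.1
  rw [h.line_eq hxy] at hz ⊢
  rw [h.line_eq hxz]
  rcases hz with hz | ⟨z', hz', rfl⟩
  · exact absurd hz hzx
  congr 2
  ext w
  simp only [blockSet]
  constructor
  · exact fun hw => ⟨hw.1, hS.block_trans hz'.1 hz'.2 hw.2⟩
  · exact fun hw => ⟨hw.1, hS.block_trans hxy.mem_link (hS.block_symm hxy.mem_link hz'.1 hz'.2) hw.2⟩

theorem line_pair {x y a b : G} (hxy : Adj D x y) (ha : a ∈ line D x y) (hb : b ∈ line D x y) (hab : a ≠ b) :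
    Adj D a b ∧ line D a b = line D x y := by
  refine ⟨⟨ha.1, hb.1, hab, line_commute hxy ha hb⟩, ?_⟩
  by_cases hax : a = x
  · subst hax; exact (h.line_left hxy hb hab.symm).2
  obtain ⟨h1, h2⟩ := h.line_left hxy ha hax
  rw [line_comm] at h2
  obtain ⟨-, h3⟩ := h.line_left h1.symm (h2 ▸ hb) hab.symm
  rw [h3, h2]

theorem line_ncard {x y : G} (hxy : Adj D x y) :
    ∃ k, 1 ≤ k ∧ (line D x y).ncard = 2 ^ k + 1 ∧
      (blockSet (linkE D x) ⟨y, subset_closure hxy.mem_link⟩).ncard = 2 ^ k := by
  have hS := h.solLink x hxy.1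
  obtain ⟨k, hk⟩ := hS.block_ncard_pow (a := ⟨y, subset_closure hxy.mem_link⟩) hxy.mem_link
  have h2 := hS.two_le_block (a := ⟨y, subset_closure hxy.mem_link⟩) hxy.mem_link
  refine ⟨k, ?_, ?_, hk⟩
  · rcases Nat.eq_zero_or_pos k with rfl | hk1
    · simp [hk] at h2
    · exact hk1
  · rw [h.line_eq hxy, Set.ncard_insert_of_notMem ?_ (Set.toFinite _),
      Set.ncard_image_of_injective _ Subtype.val_injective, hk]
    rintro ⟨z, hz, hzx⟩
    exact hz.1.2.1 hzx

theorem line_ncard_eq {x y x' y' : G} (hxy : Adj D x y) (hxy' : Adj D x' y') :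
    (line D x y).ncard = (line D x' y').ncard := by
  obtain ⟨g, hgx, hgy⟩ := OddCoreLink.exists_pair_map h.fis hxy.1 hxy.mem_link hxy'.1 hxy'.mem_link
  rw [← hgx, ← hgy, ← Set.ncard_image_of_injective (line D x y) (MulAut.conj g).injective]
  congr 1
  ext z
  constructor
  · rintro ⟨u, hu, rfl⟩; exact mem_line_conj h.fis.tt.conj g hu
  · intro hz
    refine ⟨g⁻¹ * z * g, ?_, by simp [mul_assoc]⟩
    have := mem_line_conj h.fis.tt.conj g⁻¹ hz
    simpa [mul_assoc] using this

/-- Three pairwise commuting transpositions lie on one line. -/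
theorem mem_line {x y z : G} (hxy : Adj D x y) (hz : z ∈ D) (hzx : Commute z x) (hzy : Commute z y) :
    z ∈ line D x y := by
  classical
  by_contra hzL
  obtain ⟨k, hk1, hcard, -⟩ := h.line_ncard hxy
  have hadj : ∀ c ∈ line D x y, Adj D z c := fun c hc =>
    ⟨hz, hc.1, fun e => hzL (e ▸ hc), hc.2 z hz hzx hzy⟩
  have hmem : ∀ c ∈ line D x y, c ∈ closure (link D z) := fun c hc => subset_closure (hadj c hc).mem_link
  let S : Set ↥(closure (link D z)) := {d | (d : G) ∈ line D x y}
  let F : Finset ↥(closure (link D z)) := (Set.toFinite S).toFinset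
  have hFmem : ∀ d ∈ F, (d : G) ∈ line D x y := fun d hd => (Set.toFinite S).mem_toFinset.1 hd
  have hFcard : F.card = 2 ^ k + 1 := by
    rw [← hcard, ← Set.ncard_eq_toFinset_card]
    refine (Set.ncard_image_of_injective S Subtype.val_injective).symm.trans (congrArg Set.ncard ?_)
    exact Set.ext fun c => ⟨fun ⟨d, hd, hdc⟩ => hdc ▸ hd, fun hc => ⟨⟨c, hmem c hc⟩, hc, rfl⟩⟩
  obtain ⟨k', -, hcard', hblk⟩ := h.line_ncard (hadj x (left_mem_line hxy))
  have hk' : 2 ^ k' = 2 ^ k := by
    have := h.line_ncard_eq hxy (hadj x (left_mem_line hxy))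
    omega
  have key := (h.solLink z hz).pow_le F (fun d hd => (hadj _ (hFmem d hd)).mem_link)
    (fun d hd e he => Subtype.ext (line_commute hxy (hFmem d hd) (hFmem e he)).eq)
    (fun d hd e he hne hde => by
      have hzd := hadj _ (hFmem d hd)
      have he' : (e : G) ∈ line D z d := by
        rw [h.line_eq hzd]
        exact Or.inr ⟨e, ⟨(hadj _ (hFmem e he)).mem_link, hde⟩, rfl⟩
      have hne' : (d : G) ≠ e := fun q => hne (Subtype.ext q)
      have h1 := (h.line_pair hzd (right_mem_line hzd) he' hne').2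
      rw [(h.line_pair hxy (hFmem d hd) (hFmem e he) hne').2] at h1
      exact hzL (h1 ▸ left_mem_line hzd))
    (by have := Nat.one_le_two_pow (n := k); omega)
    (a := ⟨x, hmem x (left_mem_line hxy)⟩) (hadj x (left_mem_line hxy)).mem_link
  rw [hblk, hk', hFcard] at key
  have hlt : ∀ n : ℕ, n ^ 2 < 2 ^ (n + 1) := by
    intro n
    induction n with
    | zero => norm_num
    | succ n ih =>
      rcases Nat.lt_or_ge n 3 with hn | hn
      · interval_cases n <;> norm_num
      · rw [pow_succ 2 (n + 1)]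
        nlinarith
  exact absurd key (not_le.2 (hlt _))

/-- Some member of every line commutes with a given transposition. -/
theorem exists_commute {x y z : G} (hxy : Adj D x y) (hz : z ∈ D) : ∃ a ∈ line D x y, Commute z a := by
  by_contra hcon
  push Not at hcon
  set L := line D x y with hL
  have hD := h.fis.tt
  have hsq : ∀ a ∈ L, a * a = 1 := fun a ha => hD.sq a ha.1
  have hu : ∀ a ∈ L, ∀ b ∈ L, Commute z ((a * b) * z * (a * b)⁻¹) ∧ ((a * b) * z * (a * b)⁻¹ = z → a = b) := by
    intro a ha b hb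
    have hab := line_commute hxy ha hb
    have b1 := hD.braid ha.1 hz (fun e => hcon a ha e.symm)
    have b2 := hD.braid hb.1 hz (fun e => hcon b hb e.symm)
    have he : (a * b) * z * (a * b)⁻¹ = a * (b * z * b) * a := by
      rw [mul_inv_rev, hD.inv_eq ha.1, hD.inv_eq hb.1]; group
    have hc : Commute (a * z * a) (b * z * b) := by
      have := hab.map (MulAut.conj z).toMonoidHom
      simp only [MulEquiv.coe_toMonoidHom, MulAut.conj_apply, hD.inv_eq hz] at this
      rwa [b1, b2]
    refine ⟨?_, fun e => ?_⟩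
    · have := hc.map (MulAut.conj a).toMonoidHom
      simp only [MulEquiv.coe_toMonoidHom, MulAut.conj_apply, hD.inv_eq ha.1] at this
      rw [he]
      rwa [show a * (a * z * a) * a = z by
        simp only [mul_assoc, cancel₂ (hsq a ha), hsq a ha, mul_one]] at this
    · rw [he] at e
      have e2 : b * z * b = a * z * a := by
        conv_rhs => rw [← e]
        simp only [mul_assoc, cancel₂ (hsq a ha), hsq a ha, mul_one]
      rw [b1, b2] at e2
      exact (mul_left_cancel (mul_right_cancel e2)).symm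
  have hxL : x ∈ L := left_mem_line hxy
  set u : G → G := fun a => (x * a) * z * (x * a)⁻¹ with hudef
  have hux : u x = z := by simp only [hudef, hsq x hxL, one_mul, inv_one, mul_one]
  have huD : ∀ a, u a ∈ D := fun a => hD.conj _ z hz
  have hu0 : u y ≠ z := fun e => hxy.2.2.1 ((hu x hxL y (right_mem_line hxy)).2 e)
  have hz0 : Adj D z (u y) := ⟨hz, huD y, Ne.symm hu0, (hu x hxL y (right_mem_line hxy)).1⟩
  set L' := line D z (u y) with hL'
  have hin : ∀ a ∈ L, u a ∈ L' := by
    intro a ha
    refine h.mem_line hz0 (huD a) (hu x hxL a ha).1.symm ?_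
    have := (hu y (right_mem_line hxy) a ha).1.map (MulAut.conj (x * y)).toMonoidHom
    simp only [MulEquiv.coe_toMonoidHom, MulAut.conj_apply] at this
    have hrw : x * y * (y * a * z * (y * a)⁻¹) * (x * y)⁻¹ = u a := by
      have : x * y * (y * a) = x * a := by
        rw [mul_assoc, cancel₂ (hsq y (right_mem_line hxy))]
      rw [hudef]
      dsimp only
      rw [← this]
      group
    rw [hrw] at this
    exact this.symm
  -- the group of even products
  set A := closure ((fun a => x * a) '' L) with hA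
  have hAL : ∀ g ∈ A, ∀ w ∈ L', g * w * g⁻¹ ∈ L' ∧ g⁻¹ * w * g ∈ L' := by
    intro g hg
    induction hg using closure_induction with
    | mem g hg =>
      obtain ⟨a, ha, rfl⟩ := hg
      have hinv : (x * a)⁻¹ = x * a := by
        rw [mul_inv_rev, hD.inv_eq hxy.1, hD.inv_eq ha.1, (line_commute hxy hxL ha).eq]
      have hgg : (x * a) * (x * a) = 1 := by
        nth_rewrite 2 [← hinv]; exact mul_inv_cancel _
      intro w hw
      suffices hs : (x * a) * w * (x * a)⁻¹ ∈ L' by
        refine ⟨hs, ?_⟩
        show (x * a)⁻¹ * w * (x * a) ∈ L'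
        rw [hinv] at hs ⊢
        exact hs
      by_cases hax : a = x
      · subst hax; simpa [hsq _ hxL] using hw
      have hua : u a ≠ z := fun e => hax ((hu x hxL a ha).2 e).symm
      obtain ⟨-, hl⟩ := h.line_pair hz0 (left_mem_line hz0) (hin a ha) (Ne.symm hua)
      rw [hL', ← hl] at hw
      have := mem_line_conj hD.conj (x * a) hw
      have hback : x * a * u a * (x * a)⁻¹ = z := by
        rw [hudef]
        simp only [hinv]
        rw [show x * a * (x * a * z * (x * a)) * (x * a) = (x * a * (x * a)) * z * (x * a * (x * a)) by group, hgg,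
          one_mul, mul_one]
      rw [hback, show x * a * z * (x * a)⁻¹ = u a from rfl, line_comm, hl] at this
      exact this
    | one => intro w hw; simpa using hw
    | mul g g' _ _ ih ih' =>
      intro w hw
      exact ⟨by simpa [mul_assoc] using (ih _ (ih' w hw).1).1, by simpa [mul_assoc] using (ih' _ (ih w hw).2).2⟩
    | inv g _ ih => intro w hw; simpa using (ih w hw).symm
  haveI : Fact (Nat.Prime 2) := ⟨Nat.prime_two⟩
  have hAp : IsPGroup 2 A := by
    have hcomm : ∀ g ∈ A, ∀ a ∈ L, Commute g a := by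
      intro g hg a ha
      induction hg using closure_induction with
      | mem g hg => obtain ⟨b, hb, rfl⟩ := hg; exact (line_commute hxy hxL ha).mul_left (line_commute hxy hb ha)
      | one => exact Commute.one_left a
      | mul g g' _ _ i1 i2 => exact i1.mul_left i2
      | inv g _ i1 => exact i1.inv_left
    have hsq2 : ∀ g ∈ A, g * g = 1 := by
      intro g hg
      induction hg using closure_induction with
      | mem g hg =>
        obtain ⟨b, hb, rfl⟩ := hg
        rw [← pow_two, (line_commute hxy hxL hb).mul_pow, pow_two, pow_two, hsq x hxL, hsq b hb, one_mul]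
      | one => exact one_mul 1
      | mul g g' hg hg' i1 i2 =>
        have hc : Commute g g' := by
          clear i1 i2
          induction hg' using closure_induction with
          | mem g' hg' => obtain ⟨b, hb, rfl⟩ := hg'; exact (hcomm g hg x hxL).mul_right (hcomm g hg b hb)
          | one => exact Commute.one_right g
          | mul p q _ _ j1 j2 => exact j1.mul_right j2
          | inv p _ j1 => exact j1.inv_right
        rw [← pow_two, hc.mul_pow, pow_two, pow_two, i1, i2, one_mul]
      | inv g _ i1 => rw [← mul_inv_rev, i1, inv_one]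
    exact fun g => ⟨1, Subtype.ext (by rw [pow_one, pow_two]; exact hsq2 g g.2)⟩
  letI : MulAction ↥A G := MulAction.compHom G ((MulAut.conj : G →* MulAut G).comp A.subtype)
  obtain ⟨n, hn⟩ := hAp.card_orbit z
  have hinj : Set.InjOn u L := by
    intro a ha b hb hab
    refine ((hu b hb a ha).2 ?_).symm
    have e : b * a = (x * b)⁻¹ * (x * a) := by
      rw [mul_inv_rev, hD.inv_eq hxy.1, hD.inv_eq hb.1, mul_assoc, cancel₂ (hsq x hxL)]
    rw [e, show (x * b)⁻¹ * (x * a) * z * ((x * b)⁻¹ * (x * a))⁻¹ = (x * b)⁻¹ * u a * (x * b) by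
      simp only [hudef]; group, hab]
    simp only [hudef]
    group
  have h1 : u '' L ⊆ MulAction.orbit ↥A z := by
    rintro _ ⟨a, ha, rfl⟩
    exact ⟨⟨x * a, subset_closure ⟨a, ha, rfl⟩⟩, rfl⟩
  have h2 : MulAction.orbit ↥A z ⊆ L' := by
    rintro _ ⟨g, rfl⟩
    exact (hAL g g.2 z (left_mem_line hz0)).1
  obtain ⟨k, hk1, hLc, -⟩ := h.line_ncard hxy
  have hL'c : L'.ncard = 2 ^ k + 1 := by rw [← hLc]; exact h.line_ncard_eq hz0 hxy
  have h3 := Set.ncard_le_ncard h1 (Set.toFinite _)
  have h4 := Set.ncard_le_ncard h2 (Set.toFinite _)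
  rw [Set.ncard_image_of_injOn hinj, hL, hLc] at h3
  rw [hL'c] at h4
  rw [Nat.card_coe_set_eq] at hn
  have h5 : 2 ^ n = 2 ^ k + 1 := by omega
  rcases Nat.eq_zero_or_pos n with rfl | hn0
  · have := Nat.one_le_two_pow (n := k); omega
  · have e1 : Even (2 ^ n) := Even.pow_of_ne_zero even_two (by omega)
    have e2 : Even (2 ^ k) := Even.pow_of_ne_zero even_two (by omega)
    rw [h5] at e1
    exact (Nat.even_add_one.1 e1) e2

/-- Exactly one member of a line commutes with a transposition outside it. -/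
theorem existsUnique_commute {x y z : G} (hxy : Adj D x y) (hz : z ∈ D) (hzL : z ∉ line D x y) :
    ∃! a, a ∈ line D x y ∧ Commute z a := by
  obtain ⟨a, ha, hza⟩ := h.exists_commute hxy hz
  refine ⟨a, ⟨ha, hza⟩, fun b ⟨hb, hzb⟩ => by_contra fun hba => ?_⟩
  obtain ⟨hab, hline⟩ := h.line_pair hxy ha hb (Ne.symm hba)
  exact hzL (hline ▸ h.mem_line hab hz hza hzb)

end SolLinks

end CfsgLib.ThreeTransp.SolLink
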