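import Cfsg.Agent.Lib.ThreeTransp.SolLink.Quot
import Cfsg.Agent.Lib.ThreeTransp.SolLink.Ident.Defs

/-!
Relations between members of chosen blocks, and identities read off the inner tables.
-/

set_option autoImplicit false
set_option maxRecDepth 100000
set_option linter.unusedSectionVars false

universe u

namespace CfsgLib.ThreeTransp.SolLink

open CosetCert Subgroup Cfsg

/-- Letters `a, b, c, a'`. -/
def four5 {H : Type u} (a b c a' : H) : ℕ → H := fun g => if g = 0 then a else if g = 1 then b else if g = 2 then c else a'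

/-- Plane letters of `a, b, c, a'`. -/
def pg5 (g : ℕ) : ℕ := if g < 3 then g else 0

/-- Plane letters of `a, b, a', a''`. -/
def pg4 (g : ℕ) : ℕ := if g = 1 then 1 else 0

/-- A datum fitting the blocks. -/
def OkRel (pg : ℕ → ℕ) (I : List ℕ) (t : HRel) : Prop :=
  blk pg t.2.2.1 t.2.1 ∈ I ∧ pIdx (pg t.1) ∈ I ∧
    t.2.2.2 = if blk pg t.2.2.1 t.2.1 = pIdx (pg t.1) then 2 else 3

instance (pg : ℕ → ℕ) (I : List ℕ) (t : HRel) : Decidable (OkRel pg I t) := by unfold OkRel; infer_instance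

/-- The nine points. -/
def allNine : List ℕ := List.range 9

theorem ok_five : ∀ t ∈ relFiveMid ++ relFiveTop ++ [(0, [1], 2, 3), (1, [], 0, 3), (2, [], 0, 3), (2, [], 1, 3)],
    OkRel pg5 allNine t ∧ t.1 < 4 ∧ t.2.2.1 < 4 ∧ ∀ g ∈ t.2.1, g < 4 := by
  decide +kernel

theorem ok_four : ∀ t ∈ relFourMid ++ relFourTop,
    OkRel pg4 row t ∧ t.1 < 4 ∧ t.2.2.1 < 4 ∧ ∀ g ∈ t.2.1, g < 4 := by
  decide +kernel

/-- The word fixing `b` and `c` and moving `a` to `a'`. -/
def stabFive : List ℕ := [1, 2, 3, 2, 1, 0, 3, 2, 1, 0]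

/-- The conjugated letters giving the four twins of `a`. -/
def twFive : List (ℕ × List ℕ) := [(0, []), (3, []), (0, [1, 2, 3, 1, 2]), (0, [2, 1, 3, 2, 1])]

/-- The conjugated letters giving the four twins of `a`. -/
def twFour : List (ℕ × List ℕ) := [(0, []), (2, []), (3, []), (0, [1, 2, 3, 1])]

/-- Two twins, a word and the letters they go to. -/
def sepFive : List (ℕ × ℕ × List ℕ × ℕ × ℕ) := [(0, 1, [], 0, 3), (0, 2, [1, 2, 0, 1, 2], 0, 3),
  (0, 3, [2, 1, 0, 2, 1], 0, 3), (1, 2, [2, 1, 3, 2, 1], 3, 0), (1, 3, [1, 2, 3, 1, 2], 3, 0),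
  (2, 3, [1, 2, 0, 3, 2, 1], 3, 0)]

/-- Two twins, a word and the letters they go to. -/
def sepFour : List (ℕ × ℕ × List ℕ × ℕ × ℕ) := [(0, 1, [], 0, 2), (0, 2, [], 0, 3), (0, 3, [1, 0, 2, 1], 2, 3),
  (1, 2, [], 2, 3), (1, 3, [1, 0, 2, 1], 0, 3), (2, 3, [1, 0, 3, 1], 0, 2)]

/-- The word `(k, v)` goes to the letter `j` in the inner table for five letters. -/
def ToFive (k : ℕ) (v : List ℕ) (j : ℕ) : Prop :=
  (∀ g ∈ cword k v ++ [j], g < 4) ∧ (cword k v ++ [j]).foldl dataFiveMid.tbl 0 = 0 ∧ blk pg5 k v = pIdx (pg5 j)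

/-- The word `(k, v)` goes to the letter `j` in the inner table for four letters. -/
def ToFour (k : ℕ) (v : List ℕ) (j : ℕ) : Prop :=
  (∀ g ∈ cword k v ++ [j], g < 4) ∧ (cword k v ++ [j]).foldl dataFourMid.tbl 0 = 0

theorem stab_five : ToFive 1 stabFive 1 ∧ ToFive 2 stabFive 2 ∧ ToFive 0 stabFive 3 := by
  unfold ToFive; decide +kernel

theorem tw_five_blk : ∀ q ∈ twFive, blk pg5 q.1 q.2 = 0 ∧ q.1 < 4 ∧ ∀ g ∈ q.2, g < 4 := by decide +kernel

theorem tw_four_blk : ∀ q ∈ twFour, blk pg4 q.1 q.2 = 0 ∧ q.1 < 4 ∧ ∀ g ∈ q.2, g < 4 := by decide +kernel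

theorem sep_five_ok : ∀ r ∈ sepFive,
    ToFive (twFive.getD r.1 (0, [])).1 ((twFive.getD r.1 (0, [])).2 ++ r.2.2.1) r.2.2.2.1 ∧
      ToFive (twFive.getD r.2.1 (0, [])).1 ((twFive.getD r.2.1 (0, [])).2 ++ r.2.2.1) r.2.2.2.2 := by
  unfold ToFive; decide +kernel

theorem sep_four_ok : ∀ r ∈ sepFour,
    ToFour (twFour.getD r.1 (0, [])).1 ((twFour.getD r.1 (0, [])).2 ++ r.2.2.1) r.2.2.2.1 ∧
      ToFour (twFour.getD r.2.1 (0, [])).1 ((twFour.getD r.2.1 (0, [])).2 ++ r.2.2.1) r.2.2.2.2 := by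
  unfold ToFour; decide +kernel

theorem sep_five_all : ∀ i ∈ List.range 4, ∀ j ∈ List.range 4, i < j →
    ∃ r ∈ sepFive, r.1 = i ∧ r.2.1 = j ∧
      (r.2.2.2.1, r.2.2.2.2) ∈ ([(0, 3), (3, 0)] : List (ℕ × ℕ)) := by decide +kernel

theorem sep_four_all : ∀ i ∈ List.range 4, ∀ j ∈ List.range 4, i < j →
    ∃ r ∈ sepFour, r.1 = i ∧ r.2.1 = j ∧
      (r.2.2.2.1, r.2.2.2.2) ∈ ([(0, 2), (2, 0), (0, 3), (3, 0), (2, 3), (3, 2)] : List (ℕ × ℕ)) := by
  decide +kernel

variable {H : Type u} [Group H] [Finite H] {E : Set H} {X : Type u} [Group X] {π : H →* X}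

/-- The relator of a fitting datum holds. -/
theorem rel_of_blk (h : SolTT E) (fr : Frame E X π) {e : ℕ → H} (heE : ∀ g, e g ∈ E) {pg : ℕ → ℕ}
    (hpg : ∀ g, pg g < 3) {A B C : X} (hA : A ∈ π '' E) (hB : B ∈ π '' E) (hC : C ∈ π '' E)
    (heπ : ∀ g, π (e g) = three A B C (pg g)) {I : List ℕ} (hI : Set.InjOn (pl A B C) {i | i ∈ I})
    (hpb : ∀ a ∈ E, ∀ b ∈ E, Commute a b → a * b ∈ pCore 2 H) {t : HRel} (ht : OkRel pg I t) :
    act e (hWord t) = 1 := by
  obtain ⟨hbi, hgi, hm⟩ := ht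
  have hsq : ∀ g, e g * e g = 1 := fun g => h.tt.sq _ (heE g)
  rw [act_hWord hsq]
  obtain ⟨d, hd⟩ : ∃ d, d = act e t.2.1 * e t.2.2.1 * (act e t.2.1)⁻¹ := ⟨_, rfl⟩
  rw [← hd]
  have hdE : d ∈ E := hd ▸ h.tt.conj _ _ (heE _)
  obtain ⟨-, hπd⟩ := map_conj fr.w1 hA hB hC π hpg heπ t.2.2.1 t.2.1
  rw [← hd] at hπd
  have hπf : π (e t.1) = pl A B C (pIdx (pg t.1)) := by rw [heπ, pl_idx fr.w1 hA hB hC (hpg _)]
  by_cases hb : blk pg t.2.2.1 t.2.1 = pIdx (pg t.1)
  · rw [hm, if_pos hb]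
    have hsame : d * e t.1 ∈ pCore 2 H := (fr.block d hdE _ (heE _)).1 (by rw [hπd, hb, ← hπf])
    rw [(h.block_commute hdE (heE _) hsame).mul_pow, pow_two, pow_two, h.tt.sq d hdE, hsq, one_mul]
  · rw [hm, if_neg hb]
    have hnc : ¬ Commute d (e t.1) := fun hc => hb (hI hbi hgi (by
      rw [← hπd, ← hπf]; exact (fr.block d hdE _ (heE _)).2 (hpb d hdE _ (heE _) hc)))
    exact pow_three_eq_one (h.tt.sq d hdE) (hsq _) (h.tt.braid hdE (heE _) hnc)

/-- A triple `a, b, c` in blocks spanning the plane, and a fourth member in the block of `a`. -/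
structure Quad (E : Set H) (X : Type u) [Group X] (π : H →* X) (a b c a' : H) : Prop where
  frame : Frame E X π
  ha : a ∈ E
  hb : b ∈ E
  hc : c ∈ E
  ha' : a' ∈ E
  hab : π a ≠ π b
  hac : π a ≠ π c
  hcb : π c ≠ π b
  haba : π c ≠ π a * π b * π a
  top : closure ({π a, π b, π c} : Set X) = ⊤
  card : Nat.card X = 54
  twin : π a' = π a

namespace Quad

variable {a b c a' : H} (q : Quad E X π a b c a')
include q

theorem letter_mem (g : ℕ) : four5 a b c a' g ∈ E := by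
  have := q.ha; have := q.hb; have := q.hc; have := q.ha'
  unfold four5; split_ifs <;> assumption

theorem pi_letter (g : ℕ) : π (four5 a b c a' g) = three (π a) (π b) (π c) (pg5 g) := by
  unfold four5 three pg5
  rcases g with _ | _ | _ | g
  iterate 3 simp
  simp [q.twin, show ¬ g + 1 + 1 + 1 < 3 by omega]

variable (h : SolTT E) (hpb : ∀ a ∈ E, ∀ b ∈ E, Commute a b → a * b ∈ pCore 2 H)
include h hpb

theorem rel {t : HRel} (ht : OkRel pg5 allNine t) : act (four5 a b c a') (hWord t) = 1 :=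
  rel_of_blk h q.frame q.letter_mem (fun g => by unfold pg5; split_ifs <;> omega) ⟨a, q.ha, rfl⟩ ⟨b, q.hb, rfl⟩
    ⟨c, q.hc, rfl⟩ q.pi_letter
    (by
      have : {i | i ∈ allNine} = {i : ℕ | i < 9} := by ext i; simp [allNine]
      rw [this]
      exact pl_injOn q.frame.w1 ⟨a, q.ha, rfl⟩ ⟨b, q.hb, rfl⟩ ⟨c, q.hc, rfl⟩ q.hab q.hac q.hcb q.haba)
    hpb ht

theorem affine : Affine54.Rels a b c := by
  have sa := h.tt.sq a q.ha
  have sb := h.tt.sq b q.hb
  have sc := h.tt.sq c q.hc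
  have hr : ∀ t ∈ ([(0, [1], 2, 3), (1, [], 0, 3), (2, [], 0, 3), (2, [], 1, 3)] : List HRel),
      act (four5 a b c a') (hWord t) = 1 := fun t ht =>
    q.rel h hpb (ok_five t (List.mem_append.2 (Or.inr ht))).1
  have he : ∀ g, four5 a b c a' g * four5 a b c a' g = 1 := fun g => h.tt.sq _ (q.letter_mem g)
  have h1 := hr (0, [1], 2, 3) (by simp)
  have h2 := hr (1, [], 0, 3) (by simp)
  have h3 := hr (2, [], 0, 3) (by simp)
  have h4 := hr (2, [], 1, 3) (by simp)
  simp only [act_hWord he, act_singleton, act_nil, one_mul, inv_one, mul_one, inv_eq_self (he _)] at h1 h2 h3 h4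
  simp only [four5, one_ne_zero, OfNat.ofNat_ne_zero, OfNat.ofNat_ne_one, if_false, if_true] at h1 h2 h3 h4
  refine ⟨sa, sb, sc, h2, h3, h4, ?_⟩
  have hs : (b * c * b) * (b * c * b) = 1 := by simp [mul_assoc, cancel₂ sb, cancel₂ sc, sb]
  calc (a * (b * c * b)) ^ 3 = a * ((b * c * b) * a) ^ 3 * a⁻¹ := by
        rw [← conj_pow]; congr 1; group
    _ = 1 := by rw [h1]; group

theorem eq_one {x : H} (hx : x ∈ closure ({a, b, c} : Set H)) (hπ : π x = 1) : x = 1 := by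
  obtain ⟨-, hcard⟩ := Affine54.closure_le_54 (q.affine h hpb)
  have hb := Affine54.bij_of_surj π (Γ := closure ({a, b, c} : Set H)) rfl hcard q.top
    (by rintro _ (rfl | rfl | rfl) <;> simp) q.card
  have : (⟨x, hx⟩ : closure ({a, b, c} : Set H)) = 1 := hb.1 (by simpa using hπ)
  exact congrArg Subtype.val this

/-- A conjugated letter landing on a letter in the inner table is that letter. -/
theorem to_letter {k j : ℕ} {v : List ℕ} (ht : ToFive k v j) :
    act (four5 a b c a') v * four5 a b c a' k * (act (four5 a b c a') v)⁻¹ = four5 a b c a' j := by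
  obtain ⟨hlt, h0, hblk⟩ := ht
  have he : ∀ g, four5 a b c a' g * four5 a b c a' g = 1 := fun g => h.tt.sq _ (q.letter_mem g)
  obtain ⟨-, hs, -⟩ := data_facts
  have hm : act (four5 a b c a') (cword k v ++ [j]) ∈ closure ({a, b, c} : Set H) :=
    mem_of_fold _ checkFiveMid data_facts.1.1 (fun g => (data_iv g).1) he
      (fun w hw => by
        rw [data_rels'.1] at hw
        obtain ⟨t, ht, rfl⟩ := List.mem_map.1 hw
        exact q.rel h hpb (ok_five t (List.mem_append.2 (Or.inl (List.mem_append.2 (Or.inl ht))))).1)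
      (fun w hw => by
        rw [hs] at hw
        simp only [List.mem_cons, List.not_mem_nil, or_false] at hw
        rcases hw with rfl | rfl | rfl <;> rw [act_singleton] <;> exact subset_closure (by simp [four5]))
      (by rw [data_sizes.2.2.2.1]; exact hlt) h0
  rw [act_append, act_singleton, act_cword he] at hm
  have hA : π a ∈ π '' E := ⟨a, q.ha, rfl⟩
  have hB : π b ∈ π '' E := ⟨b, q.hb, rfl⟩
  have hC : π c ∈ π '' E := ⟨c, q.hc, rfl⟩
  have hpg : ∀ g, pg5 g < 3 := fun g => by unfold pg5; split_ifs <;> omega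
  have hπ : π (four5 a b c a' j *
      (act (four5 a b c a') v * four5 a b c a' k * (act (four5 a b c a') v)⁻¹)) = 1 := by
    rw [map_mul, (map_conj q.frame.w1 hA hB hC π hpg q.pi_letter k v).2, hblk, q.pi_letter,
      pl_idx q.frame.w1 hA hB hC (hpg j)]
    exact q.frame.w1.sq _ (three_mem hA hB hC _)
  have := q.eq_one h hpb hm hπ
  exact (inv_eq_of_mul_eq_one_right this).symm.trans (inv_eq_self (he j))

end Quad

end CfsgLib.ThreeTransp.SolLink
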