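import Cfsg.Agent.Lib.ThreeTransp.SolLink.Setup

/-!
Three lines through a point: the relations of the symmetric group of degree six or of `PSU(4, 2)` hold.
-/

set_option autoImplicit false
set_option maxRecDepth 100000
set_option linter.unusedSectionVars false
set_option linter.style.haveILetI false

universe u

namespace CfsgLib.ThreeTransp.SolLink

open Subgroup Cfsg CosetCert

theorem pow_two_of_commute {M : Type*} [Group M] {u v : M} (hu : u * u = 1) (hv : v * v = 1) (hc : Commute u v) :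
    (u * v) ^ 2 = 1 := by
  rw [hc.mul_pow, pow_two, pow_two, hu, hv, one_mul]

/-- `y` is conjugate to `x` under `K`. -/
def ConjIn {M : Type*} [Group M] (K : Subgroup M) (x y : M) : Prop := ∃ k ∈ K, k * x * k⁻¹ = y

theorem ConjIn.step {M : Type*} [Group M] {D : Set M} (hD : IsTT D) {K : Subgroup M} {x u v : M} (hu : u ∈ D)
    (hv : v ∈ D) (hnc : ¬ Commute u v) (huK : u ∈ K) (hvK : v ∈ K) (h : ConjIn K x u) : ConjIn K x v := by
  obtain ⟨k, hk, hku⟩ := h
  refine ⟨u * v * k, mul_mem (mul_mem huK hvK) hk, ?_⟩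
  rw [show u * v * k * x * (u * v * k)⁻¹ = (u * v) * (k * x * k⁻¹) * (u * v)⁻¹ by group, hku]
  exact conj_of_braid (hD.sq u hu) (hD.sq v hv) (hD.braid hu hv hnc)

variable {G : Type u} [Group G] [Finite G] {D : Set G}

/-- A point `x`, a point `z` not commuting with it and two common neighbours. -/
structure TwoSetup (D : Set G) (X : Type u) [Group X] (x z : G) (π : ↥(closure (link D x)) →* X)
    (a b : ↥(closure (link D x))) : Prop where
  hx : x ∈ D
  hz : z ∈ nn D x
  frame : Frame (linkE D x) X π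
  ha : a ∈ linkE D x
  hb : b ∈ linkE D x
  za : Commute (a : G) z
  zb : Commute (b : G) z
  hab : π a ≠ π b
  top : closure ({π a, π b} : Set X) = ⊤

theorem row_rep : ∀ i ∈ row, ∀ g ∈ dataPlane.rep i, g < 2 := by decide +kernel

namespace SolLinks

variable (h : SolLinks D)
include h

theorem exists_two_setup {x z : G} (hx : x ∈ D) (hz : z ∈ nn D x) {X : Type u} [Group X]
    {π : ↥(closure (link D x)) →* X} (fr : Frame (linkE D x) X π) (h3 : (π '' linkE D x).ncard = 3) :
    ∃ a b, TwoSetup D X x z π a b := by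
  have hc : (common D x z).ncard = 3 := by rw [h.common_ncard hx hz fr.block, h3]
  obtain ⟨u, v, w, huv, -, -, heq⟩ := Set.ncard_eq_three.1 hc
  have hu : u ∈ common D x z := by rw [heq]; simp
  have hv : v ∈ common D x z := by rw [heq]; simp
  have hne : π (toH hu.1) ≠ π (toH hv.1) := fun heq => huv (h.common_inj hx hz hu hv
    (congrArg Subtype.val ((h.solLink x hx).block_commute hu.1 hv.1 ((fr.block _ hu.1 _ hv.1).1 heq)).eq))
  refine ⟨toH hu.1, toH hv.1, hx, hz, fr, hu.1, hv.1, hu.2, hv.2, hne, ?_⟩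
  set A := π (toH hu.1) with hA'
  set B := π (toH hv.1) with hB'
  have hA : A ∈ π '' linkE D x := ⟨_, hu.1, rfl⟩
  have hB : B ∈ π '' linkE D x := ⟨_, hv.1, rfl⟩
  have sA := fr.w1.sq A hA
  have sB := fr.w1.sq B hB
  have hC : A * B * A ∈ π '' linkE D x := fr.w1.closed _ hA _ hB
  have hA2 : A ≠ A * B * A := fun heq => hne (by
    calc A = A * A * A := by rw [sA, one_mul]
      _ = A * (A * B * A) * A := by rw [← heq]
      _ = B := by simp [mul_assoc, cancel₂ sA, sA])
  have hB2 : B ≠ A * B * A := fun heq => hne (by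
    rw [fr.w1.braid A hA B hB] at heq
    calc A = B * (B * A * B) * B := by simp [mul_assoc, cancel₂ sB, sB]
      _ = B * B * B := by rw [← heq]
      _ = B := by rw [sB, one_mul])
  have himg : π '' linkE D x = {A, B, A * B * A} := by
    refine (Set.eq_of_subset_of_ncard_le ?_ ?_ (Set.toFinite _)).symm
    · rintro y (rfl | rfl | rfl)
      exacts [hA, hB, hC]
    · rw [h3, Set.ncard_eq_three.2 ⟨_, _, _, hne, hA2, hB2, rfl⟩]
  rw [eq_top_iff, ← Subgroup.map_top_of_surjective π fr.surj, ← (h.solLink x hx).gen, MonoidHom.map_closure,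
    himg, closure_le]
  rintro y (rfl | rfl | rfl)
  exacts [subset_closure (by simp), subset_closure (by simp),
    mul_mem (mul_mem (subset_closure (by simp)) (subset_closure (by simp))) (subset_closure (by simp))]

theorem noncomm_blocks {x : G} (hx : x ∈ D) {X : Type u} [Group X] {π : ↥(closure (link D x)) →* X}
    (fr : Frame (linkE D x) X π) {u v : ↥(closure (link D x))} (hu : u ∈ linkE D x) (hv : v ∈ linkE D x)
    (hne : π u ≠ π v) : ¬ Commute (u : G) v := fun hc =>
  hne ((fr.block u hu v hv).2 (h.perp_block hx u hu v hv (Subtype.ext hc.eq)))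

theorem two_gen {x z : G} {X : Type u} [Group X] {π : ↥(closure (link D x)) →* X}
    {a b : ↥(closure (link D x))} (S : TwoSetup D X x z π a b) {K : Subgroup G} (hxK : x ∈ K)
    (haK : (a : G) ∈ K) (hbK : (b : G) ∈ K)
    (hblock : ∀ w ∈ blockSet (linkE D x) a, ∃ g ∈ K, g * x * g⁻¹ = (w : G)) : K = ⊤ := by
  refine h.gen_top S.hx hxK (h.link_cover S.hx S.frame (A := π a) (B := π b) (C := π a * π b * π a)
    (e := fun g => if g = 1 then b else a) (I := {i | i ∈ row}) (T := {g | g < 2}) S.ha rfl (fun g hg => ?_)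
    (frame_image_pair (h.solLink x S.hx) S.frame.w1 S.frame.surj S.ha S.hb S.top) (fun i hi g hg => row_rep i hi g hg)
    (fun g hg => ?_) hblock)
  · have hg' : g < 2 := hg
    interval_cases g <;> simp [three]
  · have hg' : g < 2 := hg
    interval_cases g <;> simpa

/-- Lines of three points: the Coxeter relations of a chain of five. -/
theorem exists_rel_six {x z : G} {X : Type u} [Group X] {π : ↥(closure (link D x)) →* X}
    {a b : ↥(closure (link D x))} (S : TwoSetup D X x z π a b)
    (hline : ∀ u v, Adj D u v → (line D u v).ncard = 3) :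
    ∃ e : ℕ → G, RelSix e ∧ closure (e '' {g | g < 5}) = ⊤ := by
  have hS := h.solLink x S.hx
  have hD := h.fis.tt
  have hxa : Adj D x a := ⟨S.hx, S.ha.1, S.ha.2.1.symm, S.ha.2.2⟩
  have hcardB : (blockSet (linkE D x) a).ncard = 2 := by
    have := h.line_ncard_block hxa
    rw [hline _ _ hxa] at this
    change 2 + 1 = _ at this
    exact (Nat.add_right_cancel this).symm
  obtain ⟨a', ha'B, ha'ne⟩ : ∃ a' ∈ blockSet (linkE D x) a, a' ≠ a :=
    Set.exists_ne_of_one_lt_ncard (by rw [hcardB]; norm_num) a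
  have ea' : π a' = π a := ((S.frame.block a S.ha a' ha'B.1).2 ha'B.2).symm
  have hbl : ∀ w ∈ blockSet (linkE D x) a, w = a ∨ w = a' := by
    intro w hw
    have heq : ({a, a'} : Set ↥(closure (link D x))) = blockSet (linkE D x) a :=
      Set.eq_of_subset_of_ncard_le (by rintro y (rfl | rfl); exacts [⟨S.ha, hS.block_self S.ha⟩, ha'B])
        (by rw [hcardB, Set.ncard_pair ha'ne.symm]) (Set.toFinite _)
    rw [← heq] at hw
    exact hw
  have cxa' : Commute x (a' : G) := ha'B.1.2.2
  have caa' : Commute (a : G) a' := congrArg Subtype.val (hS.block_commute S.ha ha'B.1 ha'B.2).eq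
  have hza' : ¬ Commute z (a' : G) := h.twin_braid hxa S.hz S.za.symm (by
    rw [h.line_eq hxa]; exact Or.inr ⟨a', ha'B, rfl⟩) (fun e => ha'ne (Subtype.ext e))
  have hba' : ¬ Commute (a' : G) b := h.noncomm_blocks S.hx S.frame ha'B.1 S.hb (ea'.trans_ne S.hab)
  have hab : ¬ Commute (a : G) b := h.noncomm_blocks S.hx S.frame S.ha S.hb S.hab
  obtain ⟨e, he⟩ : ∃ e : ℕ → G, e = fun g =>
      if g = 0 then x else if g = 1 then z else if g = 2 then (a' : G) else if g = 3 then (b : G) else (a : G) :=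
    ⟨_, rfl⟩
  have ev : e 0 = x ∧ e 1 = z ∧ e 2 = (a' : G) ∧ e 3 = (b : G) ∧ e 4 = (a : G) := by simp [he]
  obtain ⟨v0, v1, v2, v3, v4⟩ := ev
  have hmemD : ∀ g, e g ∈ D := fun g => by
    have := S.hx; have := S.hz.1; have := ha'B.1.1; have := S.hb.1; have := S.ha.1
    rw [he]; dsimp only; split_ifs <;> assumption
  have c2 : ∀ i j, Commute (e j) (e i) → (e j * e i) ^ 2 = 1 := fun i j =>
    pow_two_of_commute (hD.sq _ (hmemD j)) (hD.sq _ (hmemD i))
  have c3 : ∀ i j, ¬ Commute (e j) (e i) → (e j * e i) ^ 3 = 1 := fun i j hnc =>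
    pow_three_eq_one (hD.sq _ (hmemD j)) (hD.sq _ (hmemD i)) (hD.braid (hmemD j) (hmemD i) hnc)
  refine ⟨e, ⟨fun g => hD.sq _ (hmemD g), fun w hw => ?_⟩, ?_⟩
  · simp only [pairSix, List.map_cons, List.map_nil, List.mem_cons, List.not_mem_nil, or_false] at hw
    rcases hw with rfl | rfl | rfl | rfl | rfl | rfl | rfl | rfl | rfl | rfl <;> rw [act_pair] <;>
      first
        | (refine c3 _ _ ?_; simp only [v0, v1, v2, v3, v4]
           first
             | exact fun hc => S.hz.2 hc.symm
             | exact fun hc => hza' hc.symm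
             | exact fun hc => hba' hc.symm
             | exact hab)
        | (refine c2 _ _ ?_; simp only [v0, v1, v2, v3, v4]
           first
             | exact cxa'.symm
             | exact S.hb.2.2.symm
             | exact S.ha.2.2.symm
             | exact S.za
             | exact S.zb
             | exact caa')
  · obtain ⟨K, hK⟩ : ∃ K, K = closure (e '' {g | g < 5}) := ⟨_, rfl⟩
    rw [← hK]
    have hmem : ∀ g, g < 5 → e g ∈ K := fun g hg => hK ▸ subset_closure ⟨g, hg, rfl⟩
    have xK := v0 ▸ hmem 0 (by norm_num)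
    have zK := v1 ▸ hmem 1 (by norm_num)
    have a'K := v2 ▸ hmem 2 (by norm_num)
    have bK := v3 ▸ hmem 3 (by norm_num)
    have aK := v4 ▸ hmem 4 (by norm_num)
    have kz : ConjIn K x z := ConjIn.step hD S.hx S.hz.1 S.hz.2 xK zK ⟨1, one_mem K, by simp⟩
    have ka' : ConjIn K x a' := ConjIn.step hD S.hz.1 ha'B.1.1 hza' zK a'K kz
    have kb : ConjIn K x b := ConjIn.step hD ha'B.1.1 S.hb.1 hba' a'K bK ka'
    have ka : ConjIn K x a := ConjIn.step hD S.hb.1 S.ha.1 (fun hc => hab hc.symm) bK aK kb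
    refine h.two_gen S xK aK bK fun w hw => ?_
    rcases hbl w hw with rfl | rfl
    exacts [ka, ka']

/-- Lines of five points, three through a point: the relations of `PSU(4, 2)`. -/
theorem exists_rel_four {x z : G} {X : Type u} [Group X] {π : ↥(closure (link D x)) →* X}
    {a b : ↥(closure (link D x))} (S : TwoSetup D X x z π a b)
    (hline : ∀ u v, Adj D u v → (line D u v).ncard = 5) :
    ∃ e : ℕ → G, RelFour e ∧ closure (e '' {g | g < 7}) = ⊤ := by
  classical
  have hS := h.solLink x S.hx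
  have hpb := h.perp_block S.hx
  have hD := h.fis.tt
  have hxa : Adj D x a := ⟨S.hx, S.ha.1, S.ha.2.1.symm, S.ha.2.2⟩
  have hcardB : (blockSet (linkE D x) a).ncard = 4 := by
    have := h.line_ncard_block hxa
    rw [hline _ _ hxa] at this
    change 4 + 1 = _ at this
    exact (Nat.add_right_cancel this).symm
  obtain ⟨a', ha'B, ha'ne⟩ : ∃ a' ∈ blockSet (linkE D x) a, a' ≠ a :=
    Set.exists_ne_of_one_lt_ncard (by rw [hcardB]; norm_num) a
  obtain ⟨a'', ha''B, ha''⟩ := Set.exists_mem_notMem_of_ncard_lt_ncard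
    (show ({a, a'} : Set ↥(closure (link D x))).ncard < (blockSet (linkE D x) a).ncard by
      rw [hcardB, Set.ncard_pair ha'ne.symm]; norm_num) (Set.toFinite _)
  simp only [Set.mem_insert_iff, Set.mem_singleton_iff, not_or] at ha''
  obtain ⟨ha''ne, ha''ne'⟩ := ha''
  have hblkπ : ∀ w ∈ blockSet (linkE D x) a, π w = π a := fun w hw => ((S.frame.block a S.ha w hw.1).2 hw.2).symm
  have hA : π a ∈ π '' linkE D x := ⟨a, S.ha, rfl⟩
  have hB : π b ∈ π '' linkE D x := ⟨b, S.hb, rfl⟩
  have hC := S.frame.w1.closed _ hA _ hB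
  obtain ⟨eH, heH⟩ : ∃ eH : ℕ → ↥(closure (link D x)),
      eH = fun g => if g = 1 then b else if g = 2 then a' else if g = 3 then a'' else a := ⟨_, rfl⟩
  have hEmem : ∀ g, eH g ∈ linkE D x := fun g => by
    have := S.ha; have := S.hb; have := ha'B.1; have := ha''B.1
    rw [heH]; dsimp only; split_ifs <;> assumption
  have hpg : ∀ g, pg4 g < 3 := fun g => by unfold pg4; split_ifs <;> omega
  have hπe : ∀ g, π (eH g) = three (π a) (π b) (π a * π b * π a) (pg4 g) := by
    intro g
    rw [heH]; unfold pg4 three; dsimp only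
    rcases g with _ | _ | _ | _ | g <;> simp [hblkπ _ ha'B, hblkπ _ ha''B]
  have hsqH : ∀ g, eH g * eH g = 1 := fun g => hS.tt.sq _ (hEmem g)
  have hrelH : ∀ t ∈ relFourMid ++ relFourTop, act eH (hWord t) = 1 := fun t ht =>
    rel_of_blk hS S.frame hEmem hpg hA hB hC hπe (pl_injOn_row S.frame.w1 hA hB hC S.hab) hpb (ok_four t ht).1
  have toL : ∀ (k j : ℕ) (v : List ℕ), ToFour k v j → act eH v * eH k * (act eH v)⁻¹ = eH j := by
    rintro k j v ⟨hlt, h0⟩
    have hm : act eH (cword k v ++ [j]) ∈ (⊥ : Subgroup ↥(closure (link D x))) :=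
      mem_of_fold _ checkFourMid data_facts.1.2.2.1 (fun g => (data_iv g).2.2.1) hsqH
        (fun w hw => by
          rw [data_rels'.2.2.1] at hw
          obtain ⟨t, ht, rfl⟩ := List.mem_map.1 hw
          exact hrelH t (List.mem_append.2 (Or.inl ht)))
        (fun w hw => by rw [data_facts.2.2.2.1] at hw; cases hw)
        (by rw [data_sizes.2.2.2.2.2.1]; exact hlt) h0
    rw [act_append, act_singleton, act_cword hsqH, mem_bot] at hm
    exact (inv_eq_of_mul_eq_one_right hm).symm.trans (inv_eq_self (hsqH j))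
  obtain ⟨W, hW⟩ : ∃ W : ℕ → ↥(closure (link D x)), W = fun i =>
      act eH (twFour.getD i (0, [])).2 * eH (twFour.getD i (0, [])).1 * (act eH (twFour.getD i (0, [])).2)⁻¹ :=
    ⟨_, rfl⟩
  have hWB : ∀ i < 4, W i ∈ blockSet (linkE D x) a := by
    intro i hi
    have hmem : W i ∈ linkE D x := hW ▸ hS.tt.conj _ _ (hEmem _)
    refine ⟨hmem, (S.frame.block a S.ha _ hmem).1 ?_⟩
    have hlt : i < twFour.length := hi
    have hbk := (tw_four_blk (twFour.getD i (0, [])) (by
      rw [List.getD_eq_getElem _ _ hlt]; exact List.getElem_mem hlt)).1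
    rw [hW]
    dsimp only
    rw [(map_conj S.frame.w1 hA hB hC π hpg hπe _ _).2, hbk, pl_zero]
  have hWne : ∀ i < 4, ∀ j < 4, i < j → W i ≠ W j := by
    intro i hi j hj hij e
    obtain ⟨r, hr, h1, h2, hr2⟩ := sep_four_all i (List.mem_range.2 hi) j (List.mem_range.2 hj) hij
    obtain ⟨t1, t2⟩ := sep_four_ok r hr
    have l1 := toL _ _ _ t1
    have l2 := toL _ _ _ t2
    rw [h1] at l1
    rw [h2] at l2
    have conj_conj : ∀ k, act eH ((twFour.getD k (0, [])).2 ++ r.2.2.1) * eH (twFour.getD k (0, [])).1 *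
        (act eH ((twFour.getD k (0, [])).2 ++ r.2.2.1))⁻¹ = act eH r.2.2.1 * W k * (act eH r.2.2.1)⁻¹ := by
      intro k
      rw [act_append, hW]; group
    rw [conj_conj] at l1 l2
    rw [e, l2] at l1
    simp only [List.mem_cons, List.not_mem_nil, or_false, Prod.mk.injEq] at hr2
    rcases hr2 with ⟨e1, e2⟩ | ⟨e1, e2⟩ | ⟨e1, e2⟩ | ⟨e1, e2⟩ | ⟨e1, e2⟩ | ⟨e1, e2⟩ <;>
      rw [e1, e2, heH] at l1 <;> simp at l1
    exacts [ha'ne l1, ha'ne l1.symm, ha''ne l1, ha''ne l1.symm, ha''ne' l1, ha''ne' l1.symm]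
  have hW0 : W 0 = a := by rw [hW, heH]; simp [twFour]
  have hW1 : W 1 = a' := by rw [hW, heH]; simp [twFour]
  have hW2 : W 2 = a'' := by rw [hW, heH]; simp [twFour]
  have hblockW : ∀ w ∈ blockSet (linkE D x) a, ∃ i < 4, W i = w := by
    intro w hw
    have hsub : W '' {i | i < 4} ⊆ blockSet (linkE D x) a := by rintro _ ⟨i, hi, rfl⟩; exact hWB i hi
    have hinj : Set.InjOn W {i | i < 4} := by
      intro i hi j hj e
      rcases lt_trichotomy i j with hlt | heq | hlt
      exacts [absurd e (hWne i hi j hj hlt), heq, absurd e.symm (hWne j hj i hi hlt)]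
    have heq := Set.eq_of_subset_of_ncard_le hsub (by
      rw [hcardB, Set.ncard_image_of_injOn hinj, show {i : ℕ | i < 4} = (↑(Finset.range 4) : Set ℕ) by ext; simp,
        Set.ncard_coe_finset, Finset.card_range]) (Set.toFinite _)
    rw [← heq] at hw
    obtain ⟨i, hi, rfl⟩ := hw
    exact ⟨i, hi, rfl⟩
  have hmemL : ∀ w ∈ blockSet (linkE D x) a, (w : G) ∈ line D x a := fun w hw => by
    rw [h.line_eq hxa]; exact Or.inr ⟨w, hw, rfl⟩
  have hLeq : line D x a = {x, (W 0 : G), (W 1 : G), (W 2 : G), (W 3 : G)} := by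
    rw [h.line_eq hxa]
    congr 1
    ext y
    constructor
    · rintro ⟨w, hw, rfl⟩
      obtain ⟨i, hi, rfl⟩ := hblockW w hw
      interval_cases i <;> simp
    · rintro (rfl | rfl | rfl | rfl)
      exacts [⟨_, hWB 0 (by norm_num), rfl⟩, ⟨_, hWB 1 (by norm_num), rfl⟩, ⟨_, hWB 2 (by norm_num), rfl⟩,
        ⟨_, hWB 3 (by norm_num), rfl⟩]
  have hxW : ∀ i < 4, x ≠ (W i : G) := fun i hi e => (hWB i hi).1.2.1 e.symm
  have hWne' : ∀ i < 4, ∀ j < 4, i < j → (W i : G) ≠ W j := fun i hi j hj hij e =>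
    hWne i hi j hj hij (Subtype.ext e)
  have hprod : x * (W 0 : G) * (W 1 : G) * (W 2 : G) * (W 3 : G) = 1 := by
    refine h.line_prod hline (a := (W 0 : G)) (hW0.symm ▸ hxa) (hW0.symm ▸ hLeq) ?_
    simp only [List.nodup_cons, List.mem_cons, List.not_mem_nil, or_false, not_or, List.nodup_nil, and_true,
      not_false_eq_true]
    exact ⟨⟨hxW 0 (by norm_num), hxW 1 (by norm_num), hxW 2 (by norm_num), hxW 3 (by norm_num)⟩,
      ⟨hWne' 0 (by norm_num) 1 (by norm_num) (by norm_num), hWne' 0 (by norm_num) 2 (by norm_num) (by norm_num),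
        hWne' 0 (by norm_num) 3 (by norm_num) (by norm_num)⟩,
      ⟨hWne' 1 (by norm_num) 2 (by norm_num) (by norm_num), hWne' 1 (by norm_num) 3 (by norm_num) (by norm_num)⟩,
      hWne' 2 (by norm_num) 3 (by norm_num) (by norm_num)⟩
  obtain ⟨e, he⟩ : ∃ e : ℕ → G, e = fun g =>
      if g = 4 then z else if g = 5 then x else if g = 6 then (W 3 : G) else (eH g : G) := ⟨_, rfl⟩
  have he4 : ∀ g, g < 4 → e g = (eH g : G) := fun g hg => by
    rw [he]; simp [show g ≠ 4 by omega, show g ≠ 5 by omega, show g ≠ 6 by omega]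
  obtain ⟨v0, v1, v2, v3, v4, v5, v6⟩ : e 0 = (a : G) ∧ e 1 = (b : G) ∧ e 2 = (a' : G) ∧ e 3 = (a'' : G) ∧
      e 4 = z ∧ e 5 = x ∧ e 6 = (W 3 : G) := by simp [he, heH]
  have hWD : (W 3 : G) ∈ D := (hWB 3 (by norm_num)).1.1
  have hmemD : ∀ g, e g ∈ D := fun g => by
    have := S.hz.1; have := S.hx; have := (hEmem g).1
    rw [he]; dsimp only; split_ifs <;> assumption
  have hW3a : W 3 ≠ a := fun q => hWne 0 (by norm_num) 3 (by norm_num) (by norm_num) (hW0.trans q.symm)
  have hza' : ¬ Commute z (a' : G) := h.twin_braid hxa S.hz S.za.symm (hmemL _ ha'B) fun q => ha'ne (Subtype.ext q)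
  have hza'' : ¬ Commute z (a'' : G) :=
    h.twin_braid hxa S.hz S.za.symm (hmemL _ ha''B) fun q => ha''ne (Subtype.ext q)
  have hzW : ¬ Commute z (W 3 : G) :=
    h.twin_braid hxa S.hz S.za.symm (hmemL _ (hWB 3 (by norm_num))) fun q => hW3a (Subtype.ext q)
  have hbW : ¬ Commute (b : G) (W 3) := h.noncomm_blocks S.hx S.frame S.hb (hWB 3 (by norm_num)).1
    (by rw [hblkπ _ (hWB 3 (by norm_num))]; exact S.hab.symm)
  have hcb : ∀ u ∈ blockSet (linkE D x) a, Commute (u : G) (W 3) := fun u hu =>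
    line_commute hxa (hmemL u hu) (hmemL _ (hWB 3 (by norm_num)))
  have haa : a ∈ blockSet (linkE D x) a := ⟨S.ha, hS.block_self S.ha⟩
  have c2 : ∀ i j, Commute (e j) (e i) → (e j * e i) ^ 2 = 1 := fun i j =>
    pow_two_of_commute (hD.sq _ (hmemD j)) (hD.sq _ (hmemD i))
  have c3 : ∀ i j, ¬ Commute (e j) (e i) → (e j * e i) ^ 3 = 1 := fun i j hnc =>
    pow_three_eq_one (hD.sq _ (hmemD j)) (hD.sq _ (hmemD i)) (hD.braid (hmemD j) (hmemD i) hnc)
  have hrel : ∀ t ∈ relFourMid ++ relFourTop, act e (hWord t) = 1 := fun t ht =>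
    act_hWord_eq_one (eG := e) he4 (ok_four t ht).2 (hrelH t ht)
  refine ⟨e, ⟨fun g => hD.sq _ (hmemD g), fun w hw => ?_, fun w hw => ?_⟩, ?_⟩
  · obtain ⟨t, ht, rfl⟩ := List.mem_map.1 hw
    exact hrel t (List.mem_append.2 (Or.inl ht))
  · rcases List.mem_append.1 hw with hw | hw
    rcases List.mem_append.1 hw with hw | hw
    · obtain ⟨t, ht, rfl⟩ := List.mem_map.1 hw
      exact hrel t (List.mem_append.2 (Or.inr ht))
    · simp only [pairFour, List.map_cons, List.map_nil, List.mem_cons, List.not_mem_nil, or_false] at hw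
      rcases hw with rfl | rfl | rfl | rfl | rfl | rfl | rfl | rfl | rfl | rfl | rfl | rfl | rfl | rfl | rfl <;>
        rw [act_pair] <;>
      first
        | (refine c3 _ _ ?_; simp only [v0, v1, v2, v3, v4, v5, v6]
           first
             | exact hza'
             | exact hza''
             | exact hzW
             | exact S.hz.2
             | exact fun hc => hza' hc.symm
             | exact fun hc => hza'' hc.symm
             | exact fun hc => hzW hc.symm
             | exact fun hc => S.hz.2 hc.symm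
             | exact hbW
             | exact fun hc => hbW hc.symm)
        | (refine c2 _ _ ?_; simp only [v0, v1, v2, v3, v4, v5, v6]
           first
             | exact S.za
             | exact S.zb
             | exact S.ha.2.2.symm
             | exact S.hb.2.2.symm
             | exact ha'B.1.2.2.symm
             | exact ha''B.1.2.2.symm
             | exact (hWB 3 (by norm_num)).1.2.2
             | exact hcb _ haa
             | exact hcb _ ha'B
             | exact hcb _ ha''B
             | exact ((hWB 3 (by norm_num)).1.2.2).symm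
             | exact (hcb _ haa).symm
             | exact (hcb _ ha'B).symm
             | exact (hcb _ ha''B).symm)
    · simp only [zFour, List.mem_cons, List.not_mem_nil, or_false] at hw
      rcases hw with rfl | rfl
      · have hw3 : act eH [1, 3, 2, 1, 0, 1, 2, 3, 1] = W 3 := by
          rw [show ([1, 3, 2, 1, 0, 1, 2, 3, 1] : List ℕ) = cword 0 [1, 2, 3, 1] by decide, act_cword hsqH, hW]
          rfl
        rw [act_cons, v6, CfsgLib.Presentations.SUPres.act_congr e (fun g => (eH g : G)) _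
          (fun g hg => he4 g (by
            have : ∀ g ∈ ([1, 3, 2, 1, 0, 1, 2, 3, 1] : List ℕ), g < 4 := by decide
            exact this g hg)),
          show (fun g => (eH g : G)) = (closure (link D x)).subtype ∘ eH from rfl,
          ← CfsgLib.Presentations.SUPres.map_act, hw3]
        exact hD.sq _ hWD
      · rw [hW0, hW1, hW2] at hprod
        simp only [act_cons, act_nil, one_mul, v0, v2, v3, v5, v6]
        have := congrArg (·⁻¹) hprod
        simpa only [mul_inv_rev, inv_one, hD.inv_eq S.hx, hD.inv_eq S.ha.1, hD.inv_eq ha'B.1.1,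
          hD.inv_eq ha''B.1.1, hD.inv_eq hWD, mul_assoc] using this
  · obtain ⟨K, hK⟩ : ∃ K, K = closure (e '' {g | g < 7}) := ⟨_, rfl⟩
    rw [← hK]
    have hmem : ∀ g, g < 7 → e g ∈ K := fun g hg => hK ▸ subset_closure ⟨g, hg, rfl⟩
    have aK := v0 ▸ hmem 0 (by norm_num)
    have bK := v1 ▸ hmem 1 (by norm_num)
    have a'K := v2 ▸ hmem 2 (by norm_num)
    have a''K := v3 ▸ hmem 3 (by norm_num)
    have zK := v4 ▸ hmem 4 (by norm_num)
    have xK := v5 ▸ hmem 5 (by norm_num)
    have wK := v6 ▸ hmem 6 (by norm_num)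
    have kz : ConjIn K x z := ConjIn.step hD S.hx S.hz.1 S.hz.2 xK zK ⟨1, one_mem K, by simp⟩
    have ka' : ConjIn K x a' := ConjIn.step hD S.hz.1 ha'B.1.1 hza' zK a'K kz
    have kb : ConjIn K x b := ConjIn.step hD ha'B.1.1 S.hb.1
      (h.noncomm_blocks S.hx S.frame ha'B.1 S.hb (by rw [hblkπ _ ha'B]; exact S.hab)) a'K bK ka'
    have ka : ConjIn K x a := ConjIn.step hD S.hb.1 S.ha.1
      (fun hc => h.noncomm_blocks S.hx S.frame S.ha S.hb S.hab hc.symm) bK aK kb
    refine h.two_gen S xK aK bK fun w hw => ?_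
    obtain ⟨i, hi, rfl⟩ := hblockW w hw
    interval_cases i
    exacts [hW0 ▸ ka, hW1 ▸ ka', hW2 ▸ ConjIn.step hD S.hz.1 ha''B.1.1 hza'' zK a''K kz,
      ConjIn.step hD S.hz.1 hWD hzW zK wK kz]

end SolLinks

end CfsgLib.ThreeTransp.SolLink
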