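import Cfsg.Agent.Lib.ThreeTransp.SolLink.Eight
import Cfsg.Agent.Lib.ThreeTransp.SolLink.Two

/-!
A Fischer group with solvable links has generators satisfying one of the three sets of relations.
-/

set_option autoImplicit false
set_option maxRecDepth 100000

universe u

namespace CfsgLib.ThreeTransp.SolLink

open Subgroup Cfsg

variable {G : Type u} [Group G] [Finite G] {D : Set G}

theorem two_or_four {k : ℕ} (hk : 1 ≤ k) (hd : 2 ^ k + 2 ∣ (2 ^ k) ^ 2 * (2 ^ k * 2 + 1)) : 2 ^ k = 2 ∨ 2 ^ k = 4 := by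
  generalize hs : 2 ^ k = s at hd
  have h12 : s + 2 ∣ s ^ 2 * (s * 2 + 1) + 12 := ⟨2 * s ^ 2 + 6 - 3 * s, by
    have h : 3 * s ≤ 2 * s ^ 2 + 6 := by nlinarith [Nat.zero_le s, sq_nonneg ((s : ℤ) - 1)]
    zify [h]; ring⟩
  have h := Nat.le_of_dvd (by norm_num) ((Nat.dvd_add_right hd).1 h12)
  have h4 : k < 4 := by
    by_contra hk4
    have : 2 ^ 4 ≤ 2 ^ k := Nat.pow_le_pow_right (by norm_num) (by omega)
    omega
  subst hs
  interval_cases k
  · exact Or.inl rfl
  · exact Or.inr rfl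
  · norm_num at hd

theorem SolLinks.exists_rel (h : SolLinks D) {x : G} (hx : x ∈ D) :
    (∃ e : ℕ → G, RelFive e ∧ closure (e '' {g | g < 5}) = ⊤) ∨
      (∃ e : ℕ → G, RelFour e ∧ closure (e '' {g | g < 7}) = ⊤) ∨
      (∃ e : ℕ → G, RelSix e ∧ closure (e '' {g | g < 5}) = ⊤) := by
  obtain ⟨s, t, ⟨k, hk, rfl⟩, ht, -, hline, hcom, hnn, hdvd⟩ := h.exists_params hx
  obtain ⟨z, hz⟩ : (nn D x).Nonempty := by
    rw [← Set.ncard_pos (Set.toFinite _), hnn x hx]
    rcases ht with rfl | rfl <;> positivity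
  have hS := h.solLink x hx
  obtain ⟨X, _, _, π, fr, hcase⟩ := exists_frame hS (h.perp_block hx)
  have hcard : (π '' linkE D x).ncard = t + 1 := by rw [← h.common_ncard hx hz fr.block, hcom x hx z hz]
  rcases hcase with ⟨a, ha, b, hb, hab, htop⟩ | ⟨a, ha, b, hb, c, hc, h1, h2, h3, h4, htop, h54⟩
  · have h3' := frame_card_pair hS fr.w1 fr.surj ha hb hab htop
    obtain rfl : t = 2 := by omega
    obtain ⟨a', b', S⟩ := h.exists_two_setup hx hz fr h3'
    rcases two_or_four hk hdvd with e | e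
    · exact Or.inr (Or.inr (h.exists_rel_six S fun u v huv => by rw [hline u v huv, e]))
    · exact Or.inr (Or.inl (h.exists_rel_four S fun u v huv => by rw [hline u v huv, e]))
  · have h9 := frame_card_triple hS fr.w1 fr.surj ha hb hc h1 h2 h3 h4 htop
    obtain rfl : t = 8 := by omega
    have q : Quad (linkE D x) X π a b c a := ⟨fr, ha, hb, hc, ha, h1, h2, h3, h4, htop, h54, rfl⟩
    have hle := h.le_four hx q Nat.one_le_two_pow hline (hnn x hx)
    have h4' : 2 ^ k = 4 := by
      have h2k : k < 3 := by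
        by_contra hk3
        have : 2 ^ 3 ≤ 2 ^ k := Nat.pow_le_pow_right (by norm_num) (by omega)
        omega
      interval_cases k
      · norm_num at hdvd
      · rfl
    exact Or.inl (h.exists_rel_five hx q (fun u v huv => by rw [hline u v huv, h4']) hz)

end CfsgLib.ThreeTransp.SolLink
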