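import Cfsg.Agent.Lib.ThreeTransp.SolLink.Lines

/-!
The product of a line with five members is trivial.
-/

set_option autoImplicit false
set_option linter.unusedSectionVars false

namespace CfsgLib.ThreeTransp.SolLink

open Subgroup Cfsg

variable {G : Type*} [Group G] [Finite G] {D : Set G}

namespace SolLinks

variable (h : SolLinks D)
include h

theorem center_eq_bot : center G = ⊥ :=
  h.fis.sol _ inferInstance (Group.isSolvable_of_comm fun a b => Subtype.ext (mem_center_iff.1 b.2 a))

/-- If `z` commutes with one member of a five-member line, it commutes with the product of the other four. -/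
theorem commute_four (hfive : ∀ a b, Adj D a b → (line D a b).ncard = 5) {x y z p q r u v : G}
    (hxy : Adj D x y) (hz : z ∈ D) (hzL : z ∉ line D x y) (hp : p ∈ line D x y) (hq : q ∈ line D x y)
    (hr : r ∈ line D x y) (hu : u ∈ line D x y) (hv : v ∈ line D x y)
    (hnd : [p, q, r, u, v].Nodup) (hzp : Commute z p) : Commute z (q * r * u * v) := by
  simp only [List.nodup_cons, List.mem_cons, List.not_mem_nil, or_false, not_or, not_false_eq_true,
    List.nodup_nil, and_true] at hnd
  obtain ⟨⟨hpq, hpr, hpu, hpv⟩, ⟨hqr, hqu, hqv⟩, ⟨hru, hrv⟩, huv⟩ := hnd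
  have hD := h.fis.tt
  set L := line D x y with hL
  have hcL : ∀ a ∈ L, ∀ b ∈ L, Commute a b := fun a ha b hb => line_commute hxy ha hb
  have hsq : ∀ a ∈ L, a * a = 1 := fun a ha => hD.sq a ha.1
  have honly : ∀ a ∈ L, a ≠ p → ¬ Commute z a := fun a ha hap hza =>
    hap ((h.existsUnique_commute hxy hz hzL).unique ⟨ha, hza⟩ ⟨hp, hzp⟩)
  let f : G → G → G := fun a b => (a * b) * z * (a * b)⁻¹
  have hfe : ∀ a ∈ L, ∀ b ∈ L, f a b = a * (b * z * b) * a := fun a ha b hb => by
    simp only [f, mul_inv_rev, hD.inv_eq ha.1, hD.inv_eq hb.1]; group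
  have hfz : ∀ a ∈ L, ∀ b ∈ L, a ≠ p → b ≠ p → Commute z (f a b) ∧ (f a b = z → a = b) := by
    intro a ha b hb hap hbp
    have b1 := hD.braid ha.1 hz (fun e => honly a ha hap e.symm)
    have b2 := hD.braid hb.1 hz (fun e => honly b hb hbp e.symm)
    have hc : Commute (a * z * a) (b * z * b) := by
      have := (hcL a ha b hb).map (MulAut.conj z).toMonoidHom
      simp only [MulEquiv.coe_toMonoidHom, MulAut.conj_apply, hD.inv_eq hz] at this
      rwa [b1, b2]
    rw [hfe a ha b hb]
    refine ⟨?_, fun e => ?_⟩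
    · have := hc.map (MulAut.conj a).toMonoidHom
      simp only [MulEquiv.coe_toMonoidHom, MulAut.conj_apply, hD.inv_eq ha.1] at this
      rwa [show a * (a * z * a) * a = z by
        simp only [mul_assoc, cancel₂ (hsq a ha), hsq a ha, mul_one]] at this
    · have e2 : b * z * b = a * z * a := by
        conv_rhs => rw [← e]
        simp only [mul_assoc, cancel₂ (hsq a ha), hsq a ha, mul_one]
      rw [b1, b2] at e2
      exact (mul_left_cancel (mul_right_cancel e2)).symm
  have hne : ∀ a ∈ L, ∀ b ∈ L, a ≠ p → b ≠ p → a ≠ b → f a b ≠ z := fun a ha b hb hap hbp hab e =>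
    hab ((hfz a ha b hb hap hbp).2 e)
  have hzp' : Adj D z p := ⟨hz, hp.1, fun e => hzL (e ▸ hp), hzp⟩
  have hfM : ∀ a ∈ L, ∀ b ∈ L, a ≠ p → b ≠ p → a ≠ b → f a b ∈ line D z p \ {z, p} := by
    intro a ha b hb hap hbp hab
    have hcp : Commute (f a b) p := by
      have := hzp.map (MulAut.conj (a * b)).toMonoidHom
      simp only [MulEquiv.coe_toMonoidHom, MulAut.conj_apply] at this
      have hfix : a * b * p * (a * b)⁻¹ = p := by
        rw [((hcL a ha p hp).mul_left (hcL b hb p hp)).eq, mul_inv_cancel_right]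
      rwa [hfix] at this
    refine ⟨h.mem_line hzp' (hD.conj _ z hz) (hfz a ha b hb hap hbp).1.symm hcp, ?_⟩
    rintro (e | e)
    · exact hne a ha b hb hap hbp hab e
    · refine hzL ?_
      have : z = (a * b)⁻¹ * p * (a * b) := by
        rw [← (show f a b = p from e)]; simp only [f]; group
      rw [this, mul_assoc, ((hcL p hp a ha).mul_right (hcL p hp b hb)).eq, inv_mul_cancel_left]
      exact hp
  have hinj : ∀ a ∈ L, ∀ b ∈ L, ∀ c ∈ L, b ≠ p → c ≠ p → f a b = f a c → b = c := by
    intro a ha b hb c hc hbp hcp e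
    by_contra hbc
    refine hne b hb c hc hbp hcp hbc ?_
    rw [hfe a ha b hb, hfe a ha c hc, mul_left_inj, mul_right_inj] at e
    rw [hfe b hb c hc, ← e]
    simp only [mul_assoc, cancel₂ (hsq b hb), hsq b hb, mul_one]
  have hswap : ∀ a ∈ L, ∀ b ∈ L, f a b = f b a := fun a ha b hb => by
    simp only [f, (hcL a ha b hb).eq]
  have hMeq : line D z p \ {z, p} = {f q r, f q u, f q v} := by
    refine (Set.eq_of_subset_of_ncard_le ?_ ?_ (Set.toFinite _)).symm
    · rintro w (rfl | rfl | rfl)
      exacts [hfM q hq r hr (Ne.symm hpq) (Ne.symm hpr) hqr, hfM q hq u hu (Ne.symm hpq) (Ne.symm hpu) hqu,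
        hfM q hq v hv (Ne.symm hpq) (Ne.symm hpv) hqv]
    · rw [Set.ncard_diff (by rintro w (rfl | rfl); exacts [left_mem_line hzp', right_mem_line hzp']),
        Set.ncard_pair hzp'.2.2.1, hfive _ _ hzp',
        Set.ncard_eq_three.2 ⟨_, _, _, fun e => hru (hinj q hq r hr u hu (Ne.symm hpr) (Ne.symm hpu) e),
          fun e => hrv (hinj q hq r hr v hv (Ne.symm hpr) (Ne.symm hpv) e),
          fun e => huv (hinj q hq u hu v hv (Ne.symm hpu) (Ne.symm hpv) e), rfl⟩]
  have hm : f u v ∈ ({f q r, f q u, f q v} : Set G) := hMeq ▸ hfM u hu v hv (Ne.symm hpu) (Ne.symm hpv) huv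
  have key : f q r = f u v := by
    rcases hm with e | e | e
    · exact e.symm
    · rw [hswap q hq u hu] at e
      exact absurd (hinj u hu v hv q hq (Ne.symm hpv) (Ne.symm hpq) e) (Ne.symm hqv)
    · rw [hswap q hq v hv, hswap u hu v hv] at e
      exact absurd (hinj v hv u hu q hq (Ne.symm hpu) (Ne.symm hpq) e) (Ne.symm hqu)
  have hc : Commute ((u * v)⁻¹ * (q * r)) z := by
    refine eq_mul_inv_iff_mul_eq.1 ?_ |>.symm
    show z = (u * v)⁻¹ * (q * r) * z * ((u * v)⁻¹ * (q * r))⁻¹
    rw [show (u * v)⁻¹ * (q * r) * z * ((u * v)⁻¹ * (q * r))⁻¹ = (u * v)⁻¹ * f q r * (u * v) by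
      simp only [f]; group, key]
    simp only [f]
    group
  have he : q * r * u * v = (u * v)⁻¹ * (q * r) := by
    rw [mul_inv_rev, hD.inv_eq hu.1, hD.inv_eq hv.1, ← (hcL u hu v hv).eq, mul_assoc (q * r),
      (((hcL q hq u hu).mul_right (hcL q hq v hv)).mul_left ((hcL r hr u hu).mul_right (hcL r hr v hv))).eq]
  rw [he]
  exact hc.symm

/-- The product of a five-member line is trivial. -/
theorem line_prod (hfive : ∀ a b, Adj D a b → (line D a b).ncard = 5) {x a b c d : G}
    (hxa : Adj D x a) (hL : line D x a = {x, a, b, c, d}) (hnd : [x, a, b, c, d].Nodup) :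
    x * a * b * c * d = 1 := by
  rw [← mem_bot, ← h.center_eq_bot, mem_center_iff]
  intro g
  have hg : g ∈ closure D := h.fis.gen ▸ mem_top g
  have hmem : x ∈ line D x a ∧ a ∈ line D x a ∧ b ∈ line D x a ∧ c ∈ line D x a ∧ d ∈ line D x a := by
    rw [hL]; simp
  obtain ⟨mx, ma, mb, mc, md⟩ := hmem
  have C := fun {p q : G} (hp : p ∈ line D x a) (hq : q ∈ line D x a) => line_commute hxa hp hq
  suffices hD' : ∀ z ∈ D, Commute z (x * a * b * c * d) by
    induction hg using closure_induction with
    | mem z hz => exact (hD' z hz).eq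
    | one => simp
    | mul s t _ _ hs ht => exact ((Commute.mul_left hs ht : Commute (s * t) _)).eq
    | inv s _ hs => exact (Commute.inv_left hs : Commute s⁻¹ _).eq
  intro z hz
  by_cases hzL : z ∈ line D x a
  · exact ((((C hzL mx).mul_right (C hzL ma)).mul_right (C hzL mb)).mul_right (C hzL mc)).mul_right (C hzL md)
  obtain ⟨m, hm, hzm⟩ := h.exists_commute hxa hz
  have hsub : ∀ q ∈ ([x, a, b, c, d] : List G), q ∈ line D x a := by simp [mx, ma, mb, mc, md]
  have four := fun (p q r u v : G) (hperm : [p, q, r, u, v].Perm [x, a, b, c, d]) (hzp : Commute z p) =>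
    h.commute_four hfive hxa hz hzL (hsub p (hperm.subset (by simp))) (hsub q (hperm.subset (by simp)))
      (hsub r (hperm.subset (by simp))) (hsub u (hperm.subset (by simp))) (hsub v (hperm.subset (by simp)))
      (hperm.nodup_iff.2 hnd) hzp
  rw [hL] at hm
  rcases hm with rfl | rfl | rfl | rfl | rfl
  · rw [show m * a * b * c * d = m * (a * b * c * d) by simp [mul_assoc]]
    exact hzm.mul_right (four m a b c d (List.Perm.refl _) hzm)
  · rw [show x * m * b * c * d = m * (x * b * c * d) by
      rw [(C mx ma).eq]; simp [mul_assoc]]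
    exact hzm.mul_right (four m x b c d (List.Perm.swap _ _ _) hzm)
  · rw [show x * a * m * c * d = m * (x * a * c * d) by
      rw [((C mx mb).mul_left (C ma mb)).eq]; simp [mul_assoc]]
    exact hzm.mul_right (four m x a c d ((List.perm_middle (l₁ := [x, a])).symm) hzm)
  · rw [show x * a * b * m * d = m * (x * a * b * d) by
      rw [(((C mx mc).mul_left (C ma mc)).mul_left (C mb mc)).eq]; simp [mul_assoc]]
    exact hzm.mul_right (four m x a b d ((List.perm_middle (l₁ := [x, a, b])).symm) hzm)
  · rw [show x * a * b * c * m = m * (x * a * b * c) from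
      ((((C mx md).mul_left (C ma md)).mul_left (C mb md)).mul_left (C mc md)).eq]
    exact hzm.mul_right (four m x a b c ((List.perm_middle (l₁ := [x, a, b, c])).symm) hzm)

end SolLinks

end CfsgLib.ThreeTransp.SolLink
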