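import Cfsg.Agent.Lib.ThreeTransp.SolLink.Count
import Cfsg.Agent.Lib.ThreeTransp.SolLink.Product
import Cfsg.Agent.Lib.ThreeTransp.SolLink.Local

/-!
Lemmas shared by the three identifications.
-/

set_option autoImplicit false
set_option maxRecDepth 100000
set_option linter.unusedSectionVars false
set_option linter.style.haveILetI false

universe u

namespace CfsgLib.ThreeTransp.SolLink

open Subgroup Cfsg CosetCert

theorem conj_of_braid {M : Type*} [Group M] {d e : M} (hd : d * d = 1) (he : e * e = 1)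
    (hb : d * e * d = e * d * e) : (d * e) * d * (d * e)⁻¹ = e := by
  rw [hb, mul_inv_rev, inv_eq_self hd, inv_eq_self he]
  simp [mul_assoc, cancel₂ he, cancel₂ hd, hd]

theorem mem_hWord {t : HRel} {g : ℕ} (hg : g ∈ hWord t) : g = t.1 ∨ g = t.2.2.1 ∨ g ∈ t.2.1 := by
  have hpw : ∀ (w : List ℕ) (n : ℕ), g ∈ pw w n → g ∈ w := by
    intro w n
    induction n with
    | zero => simp [pw]
    | succ n ih => simp only [pw, List.mem_append]; rintro (h | h); exacts [h, ih h]
  have := hpw _ _ hg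
  simp only [cword, List.mem_cons, List.mem_append, List.mem_reverse] at this
  tauto

variable {G : Type u} [Group G] {D : Set G}

/-- A relator on the first letters carries over from the group of the link. -/
theorem act_hWord_eq_one {x : G} {eH : ℕ → ↥(closure (link D x))} {eG : ℕ → G} {n : ℕ}
    (he : ∀ g, g < n → eG g = (eH g : G)) {t : HRel} (ht : t.1 < n ∧ t.2.2.1 < n ∧ ∀ g ∈ t.2.1, g < n)
    (h1 : act eH (hWord t) = 1) : act eG (hWord t) = 1 := by
  rw [CfsgLib.Presentations.SUPres.act_congr eG (fun g => (eH g : G)) _ fun g hg => he g ?_]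
  · exact (CfsgLib.Presentations.SUPres.map_act (closure (link D x)).subtype eH _).symm.trans (by rw [h1]; rfl)
  · rcases mem_hWord hg with rfl | rfl | hg
    exacts [ht.1, ht.2.1, ht.2.2 g hg]

variable [Finite G]

namespace SolLinks

variable (h : SolLinks D)
include h

theorem twin_braid {x z a w : G} (hxa : Adj D x a) (hz : z ∈ nn D x) (hza : Commute z a)
    (hw : w ∈ line D x a) (hwa : w ≠ a) : ¬ Commute z w := by
  intro hzw
  have hzL : z ∉ line D x a := fun hzL => hz.2 (line_commute hxa (left_mem_line hxa) hzL)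
  exact hwa ((h.existsUnique_commute hxa hz.1 hzL).unique ⟨hw, hzw⟩ ⟨right_mem_line hxa, hza⟩)

theorem gen_top {x : G} (hx : x ∈ D) {K : Subgroup G} (hxK : x ∈ K)
    (hlink : ∀ y ∈ link D x, ∃ g ∈ K, g * x * g⁻¹ = y) : K = ⊤ := by
  rw [eq_top_iff, ← h.fis.gen, closure_le]
  intro w hw
  have key : ∀ y ∈ comp D Commute x, ∃ g ∈ K, g * x * g⁻¹ = y := by
    intro y hy
    induction hy with
    | refl => exact ⟨1, one_mem K, by simp⟩
    | @tail b c _ hbc ih =>
      obtain ⟨g, hg, rfl⟩ := ih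
      by_cases hcb : c = g * x * g⁻¹
      · exact ⟨g, hg, hcb.symm⟩
      have hl := link_conj h.fis.tt g⁻¹ (show c ∈ link D (g * x * g⁻¹) from ⟨hbc.2.1, hcb, hbc.2.2⟩)
      rw [show g⁻¹ * (g * x * g⁻¹) * g⁻¹⁻¹ = x by group] at hl
      obtain ⟨k, hk, e⟩ := hlink _ hl
      refine ⟨g * k, mul_mem hg hk, ?_⟩
      rw [show g * k * x * (g * k)⁻¹ = g * (k * x * k⁻¹) * g⁻¹ by group, e]
      group
  obtain ⟨g, hg, rfl⟩ := key w ((h.fis.tt.comp_eq_comp h.fis.gen h.fis.perf h.fis.isClass hx hw) ▸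
    mem_comp_self D Commute w)
  exact mul_mem (mul_mem hg hxK) (inv_mem hg)

theorem link_cover {x : G} (hx : x ∈ D) {X : Type u} [Group X] {π : ↥(closure (link D x)) →* X}
    (fr : Frame (linkE D x) X π) {A B C : X} {e : ℕ → ↥(closure (link D x))} {I T : Set ℕ}
    (he0 : e 0 ∈ linkE D x) (hA : π (e 0) = A) (heπ : ∀ g ∈ T, π (e g) = three A B C g)
    (himg : π '' linkE D x = pl A B C '' I) (hrep : ∀ i ∈ I, ∀ g ∈ dataPlane.rep i, g ∈ T)
    {K : Subgroup G} (heK : ∀ g ∈ T, (e g : G) ∈ K)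
    (hblock : ∀ w ∈ blockSet (linkE D x) (e 0), ∃ g ∈ K, g * x * g⁻¹ = (w : G)) :
    ∀ y ∈ link D x, ∃ g ∈ K, g * x * g⁻¹ = y := by
  intro y hy
  obtain ⟨i, hi, hpl⟩ : π (toH hy) ∈ pl A B C '' I := himg ▸ Set.mem_image_of_mem π (show toH hy ∈ linkE D x from hy)
  have hS := h.solLink x hx
  obtain ⟨g, hg⟩ : ∃ g, g = act e (dataPlane.rep i) := ⟨_, rfl⟩
  have hπg : π g = act (three A B C) (dataPlane.rep i) := by
    rw [hg, CfsgLib.Presentations.SUPres.map_act]
    exact CfsgLib.Presentations.SUPres.act_congr _ _ _ fun k hk => heπ k (hrep i hi k hk)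
  have hgK : (g : G) ∈ K := by
    rw [hg, ← Subgroup.coe_subtype, CfsgLib.Presentations.SUPres.map_act]
    exact CfsgLib.Presentations.SUPres.act_mem _ K _ fun k hk => heK k (hrep i hi k hk)
  have hw : g⁻¹ * toH hy * g ∈ linkE D x := by
    simpa using hS.tt.conj g⁻¹ (toH hy) hy
  have hπw : π (e 0) = π (g⁻¹ * toH hy * g) := by
    rw [map_mul, map_mul, map_inv, hπg, ← hpl, pl, hA]
    group
  obtain ⟨k, hk, hkw⟩ := hblock _ ⟨hw, (fr.block _ he0 _ hw).1 hπw⟩
  refine ⟨g * k, mul_mem hgK hk, ?_⟩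
  rw [show (g : G) * k * x * ((g : G) * k)⁻¹ = g * (k * x * k⁻¹) * (g : G)⁻¹ by group, hkw,
    Subgroup.coe_mul, Subgroup.coe_mul, Subgroup.coe_inv, toH]
  group

end SolLinks

end CfsgLib.ThreeTransp.SolLink
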