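import Cfsg.Agent.Lib.ThreeTransp.SolLink.Idem
import Cfsg.Agent.Lib.ThreeTransp.Radical
import Cfsg.Agent.Lib.Solvable.Fitting
import Cfsg.Agent.Lib.PGroup.Basic
import Cfsg.Agent.Lib.LocalEven.HSubgroups
import Cfsg.Agent.Lib.CN.Trichotomy

/-!
A solvable group `H` generated by one class `E` of 3-transpositions with central odd core: blocks modulo `O₂(H)`,
and `2 ^ m ≤ s ^ 2` for `m` commuting members in different blocks of size `s`.
-/

set_option autoImplicit false
set_option linter.unusedSectionVars false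
set_option linter.style.haveILetI false

universe u

namespace CfsgLib.ThreeTransp.SolLink

open Subgroup Cfsg

/-- A solvable group generated by one class of at least two 3-transpositions. -/
structure SolClass {H : Type u} [Group H] (E : Set H) : Prop where
  tt : IsTT E
  gen : closure E = ⊤
  cls : ∀ a ∈ E, ∀ b ∈ E, ∃ g : H, g * a * g⁻¹ = b
  sol : Group.IsSolvable H
  two : ∃ a ∈ E, ∃ b ∈ E, a ≠ b

theorem SolClass.exists_noncomm_self {H : Type u} [Group H] {E : Set H} (h : SolClass E) {a : H} (ha : a ∈ E) :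
    ∃ b ∈ E, ¬ Commute a b := by
  by_contra hcon
  push Not at hcon
  have hall : ∀ g, Commute a g := by
    intro g
    have hg : g ∈ closure E := h.gen ▸ mem_top g
    induction hg using closure_induction with
    | mem x hx => exact hcon x hx
    | one => exact Commute.one_right a
    | mul x y _ _ hx hy => exact hx.mul_right hy
    | inv x _ hx => exact hx.inv_right
  obtain ⟨x, hx, y, hy, hxy⟩ := h.two
  obtain ⟨g, hg⟩ := h.cls a ha x hx
  obtain ⟨g', hg'⟩ := h.cls a ha y hy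
  rw [← (hall g).eq, mul_inv_cancel_right] at hg
  rw [← (hall g').eq, mul_inv_cancel_right] at hg'
  exact hxy (hg.symm.trans hg')

theorem SolClass.nontrivial {H : Type u} [Group H] {E : Set H} (h : SolClass E) : Nontrivial H := by
  obtain ⟨x, -, y, -, hxy⟩ := h.two
  exact ⟨x, y, hxy⟩

/-- In a solvable class some member braids all of a given commuting set. -/
theorem SolClass.exists_braid : ∀ {H : Type u} [Group H] [Finite H] {E : Set H}, SolClass E →
    ∀ F : Set H, F ⊆ E → F.Nonempty → (∀ a ∈ F, ∀ b ∈ F, Commute a b) → ∃ f ∈ E, ∀ d ∈ F, ¬ Commute f d := by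
  intro H _ _ E h F hF hne hc
  induction hn : Nat.card H using Nat.strong_induction_on generalizing H with
  | _ n ih =>
  subst hn
  haveI := h.sol
  haveI := h.nontrivial
  obtain ⟨p, N, hp, hNn, hN1, hNp⟩ := CfsgLib.CharNormal.exists_normal_pGroup (S := H) inferInstance
  haveI := hNn
  haveI : Fact p.Prime := ⟨hp⟩
  by_cases hall : ∀ a ∈ E, ∀ b ∈ E, a * b ∈ N
  · obtain ⟨d, hd⟩ := hne
    obtain ⟨f, hf, hfd⟩ := h.exists_noncomm_self (hF hd)
    refine ⟨f, hf, fun e he hfe => ?_⟩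
    rcases eq_or_ne p 2 with rfl | hp2
    · exact hfd (h.tt.commute_of_mem_pGroup_two hNp (hF hd) hf (hall d (hF hd) f hf))
    · have h2 : (d * e) ^ 2 = 1 := by
        rw [(hc d hd e he).mul_pow, pow_two, pow_two, h.tt.sq d (hF hd), h.tt.sq e (hF he), one_mul]
      obtain ⟨k, hk⟩ := hNp ⟨d * e, hall d (hF hd) e (hF he)⟩
      have hk' : (d * e) ^ p ^ k = 1 := by simpa using congrArg Subtype.val hk
      have h1 : orderOf (d * e) ∣ Nat.gcd 2 (p ^ k) :=
        Nat.dvd_gcd (orderOf_dvd_of_pow_eq_one h2) (orderOf_dvd_of_pow_eq_one hk')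
      rw [Nat.Coprime.pow_right k ((Nat.coprime_primes Nat.prime_two hp).2 hp2.symm), Nat.dvd_one,
        orderOf_eq_one_iff] at h1
      have hde : d = e := by rw [← h.tt.inv_eq (hF he)]; exact eq_inv_of_mul_eq_one_left h1
      exact hfd (hde ▸ hfe.symm)
  push Not at hall
  obtain ⟨a, ha, b, hb, hab⟩ := hall
  set π := QuotientGroup.mk' N with hπ
  have hπa : ∀ x ∈ E, π x ≠ 1 := by
    intro x hx h1
    have hxN : x ∈ N := (QuotientGroup.eq_one_iff _).1 h1
    obtain ⟨g, hg⟩ := h.cls x hx a ha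
    obtain ⟨g', hg'⟩ := h.cls x hx b hb
    exact hab (hg ▸ hg' ▸ mul_mem (hNn.conj_mem _ hxN g) (hNn.conj_mem _ hxN g'))
  have hE' : SolClass (π '' E) := by
    refine ⟨⟨?_, ?_, ?_, ?_⟩, ?_, ?_, inferInstance, ?_⟩
    · rintro _ ⟨x, hx, rfl⟩; rw [← map_mul, h.tt.sq x hx, map_one]
    · rintro _ ⟨x, hx, rfl⟩; exact hπa x hx
    · rintro _ ⟨x, hx, rfl⟩ _ ⟨y, hy, rfl⟩
      exact (h.tt.cond x hx y hy).imp (fun hxy => hxy.map π) fun hxy => by simp only [← map_mul, hxy]
    · rintro g _ ⟨x, hx, rfl⟩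
      obtain ⟨g, rfl⟩ := QuotientGroup.mk'_surjective N g
      exact ⟨g * x * g⁻¹, h.tt.conj g x hx, by simp [map_mul]; rfl⟩
    · rw [← MonoidHom.map_closure, h.gen, Subgroup.map_top_of_surjective _ (QuotientGroup.mk'_surjective N)]
    · rintro _ ⟨x, hx, rfl⟩ _ ⟨y, hy, rfl⟩
      obtain ⟨g, hg⟩ := h.cls x hx y hy
      exact ⟨π g, by rw [← map_inv, ← map_mul, ← map_mul, hg]⟩
    · refine ⟨π a, ⟨a, ha, rfl⟩, π b, ⟨b, hb, rfl⟩, fun he => hab ?_⟩
      refine (QuotientGroup.eq_one_iff _).1 ?_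
      show π (a * b) = 1
      rw [map_mul, he, ← map_mul, h.tt.sq b hb, map_one]
  have hlt : Nat.card (H ⧸ N) < Nat.card H := by
    rw [Subgroup.card_eq_card_quotient_mul_card_subgroup N]
    exact lt_mul_of_one_lt_right Nat.card_pos ((Subgroup.one_lt_card_iff_ne_bot N).2 hN1)
  obtain ⟨_, ⟨f, hf, rfl⟩, hff⟩ := ih _ hlt hE' (π '' F) (Set.image_mono hF) (hne.image _)
    (by rintro _ ⟨x, hx, rfl⟩ _ ⟨y, hy, rfl⟩; exact (hc x hx y hy).map π) rfl
  exact ⟨f, hf, fun d hd hfd => hff (π d) ⟨d, hd, rfl⟩ (hfd.map π)⟩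

/-- A solvable class whose odd core is central. -/
structure SolTT {H : Type u} [Group H] (E : Set H) : Prop extends SolClass E where
  odd : oddCore H ≤ center H

variable {H : Type u} [Group H] [Finite H] {E : Set H}

/-- Congruence modulo `O₂(H)`. -/
def blockSet (E : Set H) (a : H) : Set H := {b | b ∈ E ∧ a * b ∈ pCore 2 H}

namespace SolTT

variable (h : SolTT E)
include h

theorem fitting_le : fittingSubgroup H ≤ pCore 2 H ⊔ center H := by
  rw [CfsgLib.Cores.fittingSubgroup_eq_iSup_pCore]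
  refine iSup_le fun q => ?_
  haveI : Fact (q : ℕ).Prime := ⟨Nat.prime_of_mem_primeFactors q.2⟩
  rcases eq_or_ne (q : ℕ) 2 with hq | hq
  · rw [hq]; exact le_sup_left
  · refine le_trans (le_trans ?_ h.odd) le_sup_right
    refine le_sSup ⟨(Subgroup.sSup_normal _ fun N hN => hN.1), ?_⟩
    obtain ⟨k, hk⟩ := IsPGroup.iff_card.1 (CfsgLib.Cores.isPGroup_pCore (G := H) (q : ℕ))
    rw [hk]
    exact Nat.Coprime.pow_left k ((Nat.coprime_primes Fact.out Nat.prime_two).2 hq)

theorem exists_mul {x : H} (hx : x ∈ fittingSubgroup H) : ∃ q ∈ pCore 2 H, ∃ z ∈ center H, x = q * z := by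
  have hx' := h.fitting_le hx
  rw [← SetLike.mem_coe, Subgroup.mul_normal] at hx'
  obtain ⟨q, hq, z, hz, rfl⟩ := hx'
  exact ⟨q, hq, z, hz, rfl⟩

/-- Elements of odd order in the Fitting subgroup are central. -/
theorem central_of_odd {x : H} (hx : x ∈ fittingSubgroup H) (ho : Odd (orderOf x)) : x ∈ center H := by
  haveI : Fact (Nat.Prime 2) := ⟨Nat.prime_two⟩
  obtain ⟨q, hq, z, hz, rfl⟩ := h.exists_mul hx
  obtain ⟨k, hk⟩ := CfsgLib.Cores.isPGroup_pCore (G := H) 2 ⟨q, hq⟩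
  have hk' : q ^ 2 ^ k = 1 := by simpa using congrArg Subtype.val hk
  have hpow : (q * z) ^ 2 ^ k ∈ center H := by
    rw [(show Commute q z from mem_center_iff.1 hz q).mul_pow, hk', one_mul]
    exact pow_mem hz _
  obtain ⟨m, hm⟩ := exists_pow_eq_self_of_coprime (n := 2 ^ k) (x := q * z)
    (Nat.Coprime.pow_left k (Nat.coprime_two_left.2 ho))
  rw [← hm]
  exact pow_mem hpow m

/-- Involutions of the Fitting subgroup lie in `O₂`. -/
theorem mem_two {x : H} (hx : x ∈ fittingSubgroup H) (h2 : x * x = 1) : x ∈ pCore 2 H := by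
  haveI : Fact (Nat.Prime 2) := ⟨Nat.prime_two⟩
  obtain ⟨q, hq, z, hz, rfl⟩ := h.exists_mul hx
  haveI hQn : (pCore 2 H).Normal := Subgroup.sSup_normal _ fun N hN => hN.1
  set M := pCore 2 H ⊔ zpowers (q * z) with hM
  have hMn : M.Normal := by
    refine ⟨fun y hy g => ?_⟩
    rw [hM, sup_eq_closure] at hy ⊢
    induction hy using closure_induction with
    | mem y hy =>
      rcases hy with hy | hy
      · exact subset_closure (Or.inl (hQn.conj_mem y hy g))
      · obtain ⟨i, rfl⟩ := hy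
        show g * (q * z) ^ i * g⁻¹ ∈ _
        rw [← conj_zpow]
        refine zpow_mem ?_ i
        have : g * (q * z) * g⁻¹ = (g * q * g⁻¹ * q⁻¹) * (q * z) := by
          have hzg : g * z = z * g := mem_center_iff.1 hz g
          rw [show g * (q * z) * g⁻¹ = g * q * (z * g⁻¹) by group, ← mem_center_iff.1 hz g⁻¹]
          group
        rw [this]
        exact mul_mem (subset_closure (Or.inl (mul_mem (hQn.conj_mem q hq g) (inv_mem hq))))
          (subset_closure (Or.inr (mem_zpowers _)))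
    | one => simpa using one_mem _
    | mul a b _ _ iha ihb => simpa [mul_assoc] using mul_mem iha ihb
    | inv a _ iha => simpa [mul_assoc] using inv_mem iha
  have hz2 : IsPGroup 2 (zpowers (q * z)) := fun y => by
    obtain ⟨i, hi⟩ := y.2
    refine ⟨1, Subtype.ext ?_⟩
    rw [SubmonoidClass.coe_pow, ← hi, pow_one]
    show ((q * z) ^ i) ^ 2 = 1
    rw [← zpow_natCast, ← zpow_mul, mul_comm, zpow_mul, zpow_natCast, pow_two, h2, one_zpow]
  have hMp : IsPGroup 2 M :=
    IsPGroup.to_sup_of_normal_left (CfsgLib.Cores.isPGroup_pCore 2) hz2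
  haveI := hMn
  exact CfsgLib.Cores.le_pCore hMp (Subgroup.mem_sup_right (mem_zpowers _))

/-- A normal subgroup whose odd-order elements are central is nilpotent. -/
theorem le_fitting_of_odd {M : Subgroup H} [M.Normal]
    (hM : ∀ x ∈ M, Odd (orderOf x) → x ∈ center H) : M ≤ fittingSubgroup H := by
  refine CfsgLib.Cores.le_fittingSubgroup (Group.of_quotient_center_nilpotent ?_)
  refine IsPGroup.isNilpotent (p := 2) fun y => ?_
  haveI : Fact (Nat.Prime 2) := ⟨Nat.prime_two⟩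
  obtain ⟨x, rfl⟩ := QuotientGroup.mk'_surjective _ y
  obtain ⟨k, m, hm, hkm⟩ := Nat.exists_eq_two_pow_mul_odd (n := orderOf (x : H)) (orderOf_pos _).ne'
  refine ⟨k, ?_⟩
  rw [← map_pow]
  refine (QuotientGroup.eq_one_iff _).2 (mem_center_iff.2 fun w => Subtype.ext ?_)
  have ho : Odd (orderOf ((x : H) ^ 2 ^ k)) := by
    rw [orderOf_pow', hkm, Nat.gcd_eq_right (dvd_mul_right _ _), Nat.mul_div_cancel_left _ (by positivity)]
    · exact hm
    · positivity
  exact mem_center_iff.1 (hM _ (M.pow_mem x.2 _) ho) w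

theorem centralizer_two_le : centralizer (pCore 2 H : Set H) ≤ fittingSubgroup H := by
  haveI := h.sol
  refine le_trans (fun c hc => ?_) CfsgLib.Solvable.centralizer_fittingSubgroup_le
  refine mem_centralizer_iff.2 fun x hx => ?_
  obtain ⟨q, hq, z, hz, rfl⟩ := h.exists_mul hx
  rw [mul_assoc, ← mem_center_iff.1 hz c, ← mul_assoc, mem_centralizer_iff.1 hc q hq, mul_assoc]

theorem block_self {a : H} (ha : a ∈ E) : a * a ∈ pCore 2 H := by rw [h.tt.sq a ha]; exact one_mem _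

theorem block_symm {a b : H} (ha : a ∈ E) (hb : b ∈ E) (hab : a * b ∈ pCore 2 H) : b * a ∈ pCore 2 H := by
  have := inv_mem hab
  rwa [mul_inv_rev, h.tt.inv_eq ha, h.tt.inv_eq hb] at this

theorem block_trans {a b c : H} (hb : b ∈ E) (hab : a * b ∈ pCore 2 H) (hbc : b * c ∈ pCore 2 H) :
    a * c ∈ pCore 2 H := by
  have := mul_mem hab hbc
  rwa [mul_assoc, ← mul_assoc b b, h.tt.sq b hb, one_mul] at this

theorem block_commute {a b : H} (ha : a ∈ E) (hb : b ∈ E) (hab : a * b ∈ pCore 2 H) : Commute a b := by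
  haveI : Fact (Nat.Prime 2) := ⟨Nat.prime_two⟩
  exact h.tt.commute_of_mem_pGroup_two (CfsgLib.Cores.isPGroup_pCore 2) ha hb hab

theorem block_perp {a b w : H} (ha : a ∈ E) (hb : b ∈ E) (hw : w ∈ E) (hab : a * b ∈ pCore 2 H)
    (hwa : Commute w a) : Commute w b := by
  by_contra hwb
  haveI hQn : (pCore 2 H).Normal := Subgroup.sSup_normal _ fun N hN => hN.1
  have h3 := pow_three_eq_one (h.tt.sq w hw) (h.tt.sq b hb) (h.tt.braid hw hb hwb)
  set π := QuotientGroup.mk' (pCore 2 H)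
  have hmk : π (w * b) = π (w * a) := by
    have h1 : π (a * b) = 1 := (QuotientGroup.eq_one_iff _).2 hab
    rw [show w * b = w * a * (a * b) by rw [mul_assoc, cancel₂ (h.tt.sq a ha)], map_mul, h1, mul_one]
  have h2 : (π (w * b)) ^ 2 = 1 := by
    rw [hmk, ← map_pow, hwa.mul_pow, pow_two, pow_two, h.tt.sq w hw, h.tt.sq a ha, one_mul, map_one]
  have h1 : π (w * b) = 1 := by
    calc π (w * b) = (π (w * b)) ^ 3 := by rw [pow_succ, h2, one_mul]
      _ = 1 := by rw [← map_pow, h3, map_one]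
  exact hwb (h.block_commute hw hb ((QuotientGroup.eq_one_iff _).1 h1))

theorem perp_eq {a b : H} (ha : a ∈ E) (hb : b ∈ E) (hab : a * b ∈ pCore 2 H) : perp E a = perp E b :=
  Set.ext fun w => ⟨fun hw => ⟨hw.1, (h.block_perp ha hb hw.1 hab hw.2.symm).symm⟩,
    fun hw => ⟨hw.1, (h.block_perp hb ha hw.1 (h.block_symm ha hb hab) hw.2.symm).symm⟩⟩

theorem block_of_perp {a b : H} (ha : a ∈ E) (hb : b ∈ E) (hp : perp E a = perp E b) : a * b ∈ pCore 2 H := by
  haveI : Fact (Nat.Prime 2) := ⟨Nat.prime_two⟩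
  haveI := h.tt.keyKer_normal h.tt.equivariant_perp
  exact CfsgLib.Cores.le_pCore h.tt.perpKer_isPGroup (mul_mem_keyKer ha hb hp)

/-- A block is one orbit of `O₂`. -/
theorem exists_conj_two {a b : H} (ha : a ∈ E) (hb : b ∈ E) (hab : a * b ∈ pCore 2 H) :
    ∃ q ∈ pCore 2 H, q * a * q⁻¹ = b := by
  haveI : Fact (Nat.Prime 2) := ⟨Nat.prime_two⟩
  obtain ⟨x, hx, hax⟩ := h.exists_noncomm_self ha
  have hn := h.tt.keyKer_normal h.tt.equivariant_perp
  haveI := hn
  obtain ⟨g, hg, hgb⟩ := h.tt.exists_conj_keyKer ha hb hx hax (Or.inr fun hc => by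
    have := h.block_perp hb ha (h.tt.cj_mem ha hx) (h.block_symm ha hb hab) hc
    exact h.tt.not_commute_cj_left ha hax this.symm) hn (h.perp_eq ha hb hab).symm
  exact ⟨g, CfsgLib.Cores.le_pCore h.tt.perpKer_isPGroup hg, hgb.symm⟩

theorem conj_mem_block {a q : H} (ha : a ∈ E) (hq : q ∈ pCore 2 H) : q * a * q⁻¹ ∈ blockSet E a := by
  haveI hQn : (pCore 2 H).Normal := Subgroup.sSup_normal _ fun N hN => hN.1
  refine ⟨h.tt.conj q a ha, ?_⟩
  have := mul_mem (hQn.conj_mem q hq a) (inv_mem hq)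
  rw [h.tt.inv_eq ha] at this
  simpa [mul_assoc] using this

theorem block_eq_range {a : H} (ha : a ∈ E) :
    blockSet E a = Set.range fun q : pCore 2 H => (q : H) * a * (q : H)⁻¹ := by
  ext b
  refine ⟨fun hb => ?_, ?_⟩
  · obtain ⟨q, hq, hqb⟩ := h.exists_conj_two ha hb.1 hb.2
    exact ⟨⟨q, hq⟩, hqb⟩
  · rintro ⟨q, rfl⟩
    exact h.conj_mem_block ha q.2

theorem block_ncard_eq {a b : H} (ha : a ∈ E) (hb : b ∈ E) : (blockSet E a).ncard = (blockSet E b).ncard := by
  haveI hQn : (pCore 2 H).Normal := Subgroup.sSup_normal _ fun N hN => hN.1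
  obtain ⟨g, hg⟩ := h.cls a ha b hb
  subst hg
  rw [← Set.ncard_image_of_injective (blockSet E a) (MulAut.conj g).injective]
  congr 1
  ext c
  simp only [Set.mem_image, blockSet, Set.mem_setOf_eq, MulAut.conj_apply]
  constructor
  · rintro ⟨x, ⟨hx, hax⟩, rfl⟩
    refine ⟨h.tt.conj g x hx, ?_⟩
    have := hQn.conj_mem _ hax g
    simpa [mul_assoc] using this
  · rintro ⟨hc, hgc⟩
    refine ⟨g⁻¹ * c * g, ⟨by simpa using h.tt.conj g⁻¹ c hc, ?_⟩, by group⟩
    have := hQn.conj_mem _ hgc g⁻¹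
    simpa [mul_assoc] using this

theorem block_ncard_pow {a : H} (ha : a ∈ E) : ∃ n, (blockSet E a).ncard = 2 ^ n := by
  haveI : Fact (Nat.Prime 2) := ⟨Nat.prime_two⟩
  letI : MulAction ↥(pCore 2 H) H := MulAction.compHom H ((MulAut.conj : H →* MulAut H).comp (pCore 2 H).subtype)
  obtain ⟨n, hn⟩ := (CfsgLib.Cores.isPGroup_pCore (G := H) 2).card_orbit a
  refine ⟨n, ?_⟩
  rw [h.block_eq_range ha, ← hn, ← Nat.card_coe_set_eq]
  rfl

theorem two_le_block {a : H} (ha : a ∈ E) : 2 ≤ (blockSet E a).ncard := by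
  by_contra hlt
  have h1 : ∀ b ∈ E, ∀ q ∈ pCore 2 H, q * b * q⁻¹ = b := by
    intro b hb q hq
    have hle : (blockSet E b).ncard ≤ 1 := by rw [h.block_ncard_eq hb ha]; omega
    exact (Set.ncard_le_one).1 hle _ (h.conj_mem_block hb hq) _ ⟨hb, h.block_self hb⟩
  have hQc : ∀ b ∈ E, b ∈ centralizer (pCore 2 H : Set H) := fun b hb =>
    mem_centralizer_iff.2 fun q hq => mul_inv_eq_iff_eq_mul.1 (h1 b hb q hq)
  obtain ⟨x, hx, hax⟩ := h.exists_noncomm_self ha
  exact hax (h.block_commute ha hx (mul_mem (h.mem_two (h.centralizer_two_le (hQc a ha)) (h.tt.sq a ha))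
    (h.mem_two (h.centralizer_two_le (hQc x hx)) (h.tt.sq x hx))))

end SolTT

end CfsgLib.ThreeTransp.SolLink
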